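import Cfsg.Agent.H972.CS.F4Link
import Cfsg.Agent.H38.CS.Gen

/-!
# The centralisers of the elements of prime order of `F₄(2)` (helper972)

* `f4_cent` : the bound from the kernel evaluation, any `q`;
* `two_three` .. `two_thirteen` : `|C(x)| ≤ 4354560, 3600, 1176, 13` for `x` of order `3, 5, 7, 13` in `F₄(2)`.
-/

set_option autoImplicit false
set_option linter.unusedSectionVars false

namespace Cfsg.Agent.H972.CS.F4Two

open CoxeterSystem Cfsg Cfsg.Lie Cfsg.Lie.ChevalleyDatum
open Cfsg.Agent.ChevalleyStructure Cfsg.Agent.ChevalleyStructure.Elts Cfsg.Agent.ChevalleyStructure.CoxeterGeom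
  Cfsg.Agent.ChevalleyStructure.CoxeterGeomTypes Cfsg.Agent.ChevalleyStructure.NPerm
open Cfsg.Agent.Tits.Roots Cfsg.Agent.Tits.Core Cfsg.Agent.Nodes Cfsg.Agent.Nodes.Reps Cfsg.Agent.Nodes.BNOf
  Cfsg.Agent.Nodes.RGDChev Cfsg.Agent.H129.TorusChar Cfsg.Agent.H129.TorusUntw
open Cfsg.Agent.H972.CS.Main Cfsg.Agent.H972.CS.Eval Cfsg.Agent.H972.CS.LinkOf Cfsg.Agent.H972.CS.F4Link

universe u

theorem isF4 : IsType chevF4 4 CoxeterMatrix.F₄ := by simp [IsType, typeList]

/-- the check over all Kac points -/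
def chk4 (q s K : ℕ) : Bool := (kac4 s).all fun fl => (fl.all fun c => c % (s : ℤ) == 0) || data4.ok 4 q s 1 K fl

/-- **Centralisers in `F₄(q)` from the kernel evaluation.** -/
theorem f4_cent {F : Type u} [Field F] [Fintype F] {q s K : ℕ} (hF : Fintype.card F = q) (hs : s.Prime)
    (hsF : (s : F) ≠ 0) (hc : chk4 q s K = true) {x : ↥(chevF4.group F)} (hx : orderOf x = s) :
    Nat.card ↥(Subgroup.centralizer {x}) ≤ K := by
  subst hF
  refine Cfsg.Agent.H38.CS.cent_le isF4 invC_F4 one_ne_zero (Or.inl rfl) hs hsF (meets4 isF4 hs.pos)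
    (link4 isF4 _) (gok_one isF4 _) ?_ hx
  rintro f ⟨fl, hfl, hf⟩ hf0
  have hl := kac_length hfl
  refine ⟨fl, hl, hf, ?_⟩
  unfold chk4 at hc
  rw [List.all_eq_true] at hc
  have h1 := hc fl hfl
  rw [Bool.or_eq_true] at h1
  rcases h1 with h1 | h1
  · exfalso
    apply hf0
    rw [List.all_eq_true] at h1
    refine AddMonoidHom.ext fun y => ?_
    rw [eq_sum_sr y, map_sum]
    refine Finset.sum_eq_zero fun i _ => ?_
    have h2 : fl.getD i 0 ∈ fl := by
      rw [List.getD_eq_getElem _ _ (by rw [hl]; exact i.2)]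
      exact List.getElem_mem _
    have h3 := h1 _ h2
    rw [beq_iff_eq] at h3
    rw [map_zsmul, hf, eq_of_mod h3, smul_zero]
  · exact h1

set_option maxRecDepth 1000000 in
theorem c3 : chk4 2 3 4354560 = true := by decide +kernel
set_option maxRecDepth 1000000 in
theorem c5 : chk4 2 5 3600 = true := by decide +kernel
set_option maxRecDepth 1000000 in
theorem c7 : chk4 2 7 1176 = true := by decide +kernel
set_option maxRecDepth 1000000 in
theorem c13 : chk4 2 13 13 = true := by decide +kernel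

theorem cast_ne {F : Type u} [Field F] [Fintype F] (hF : Fintype.card F = 2) {s : ℕ} (hs : s % 2 = 1) :
    (s : F) ≠ 0 := by
  have h2 : (2 : F) = 0 := by
    have h1 := FiniteField.cast_card_eq_zero F
    rw [hF] at h1
    exact_mod_cast h1
  have h3 : (s : F) = 1 := by
    have h4 : s = 2 * (s / 2) + 1 := by omega
    rw [h4]
    push_cast
    rw [h2, zero_mul, zero_add]
  rw [h3]
  exact one_ne_zero

variable {F : Type u} [Field F] [Fintype F] (hF : Fintype.card F = 2) {x : ↥(chevF4.group F)}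

include hF

theorem two_three (hx : orderOf x = 3) : Nat.card ↥(Subgroup.centralizer {x}) ≤ 4354560 :=
  f4_cent hF Nat.prime_three (cast_ne hF rfl) c3 hx

theorem two_five (hx : orderOf x = 5) : Nat.card ↥(Subgroup.centralizer {x}) ≤ 3600 :=
  f4_cent hF Nat.prime_five (cast_ne hF rfl) c5 hx

theorem two_seven (hx : orderOf x = 7) : Nat.card ↥(Subgroup.centralizer {x}) ≤ 1176 :=
  f4_cent hF (by norm_num) (cast_ne hF rfl) c7 hx

theorem two_thirteen (hx : orderOf x = 13) : Nat.card ↥(Subgroup.centralizer {x}) ≤ 13 :=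
  f4_cent hF (by norm_num) (cast_ne hF rfl) c13 hx

end Cfsg.Agent.H972.CS.F4Two
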