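import Cfsg.Agent.H972.CS.Count
import Mathlib.LinearAlgebra.FreeModule.Finite.CardQuotient

/-!
# The rational points of a torus (helper972)

* `card_hom_le` : a finite abelian group has at most `|A|` characters in a field;
* `card_TF_le` : `|T^τ| ≤ |det (g - q)|`, `τ` a Frobenius frame automorphism with lattice map `g`.
-/

set_option autoImplicit false
set_option linter.unusedSectionVars false

namespace Cfsg.Agent.H972.CS.Torus

open CoxeterSystem Cfsg Cfsg.Lie Cfsg.Lie.ChevalleyDatum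
open Cfsg.Agent.ChevalleyStructure Cfsg.Agent.ChevalleyStructure.Elts Cfsg.Agent.ChevalleyStructure.CoxeterGeom
  Cfsg.Agent.ChevalleyStructure.CoxeterGeomTypes Cfsg.Agent.ChevalleyStructure.NPerm
open Cfsg.Agent.Tits.Roots Cfsg.Agent.Tits.Core Cfsg.Agent.Nodes Cfsg.Agent.Nodes.Reps Cfsg.Agent.Nodes.BNOf
  Cfsg.Agent.Nodes.RGDChev
open Cfsg.Agent.KFacts.RgdField Cfsg.Agent.KFacts.RgdChevCoord
open Cfsg.Agent.BpExc Cfsg.Agent.BpExc.TorCent Cfsg.Agent.BpExc.TorChev Cfsg.Agent.BpExc.Tow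
  Cfsg.Agent.BpExc.TowChev Cfsg.Agent.BpExc.Fr Cfsg.Agent.BpExc.Pair Cfsg.Agent.BpExc.LangFr Cfsg.Agent.GpExc.Field
  Cfsg.Agent.BpExc.NInst Cfsg.Agent.BpExc.NChev Cfsg.Agent.H129.TorusChar Cfsg.Agent.H972.CS.Count

universe u v

/-- A finite abelian group has at most `|A|` characters. -/
theorem finite_hom (A : Type*) [CommGroup A] [Finite A] (K : Type*) [Field K] : Finite (A →* K) := by
  classical
  have := Fintype.ofFinite A
  exact (linearIndependent_monoidHom A K).finite_of_isNoetherian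

theorem card_hom_le (A : Type*) [CommGroup A] [Finite A] (K : Type*) [Field K] :
    Nat.card (A →* K) ≤ Nat.card A := by
  classical
  have := Fintype.ofFinite A
  have h1 := linearIndependent_monoidHom A K
  have h2 : Finite (A →* K) := finite_hom A K
  have := Fintype.ofFinite (A →* K)
  have h3 := h1.fintype_card_le_finrank
  rw [Module.finrank_fintype_fun_eq_card] at h3
  rwa [Nat.card_eq_fintype_card, Nat.card_eq_fintype_card]

/-- the lattice map `g - q` -/
def gq {l : ℕ} (g : (Fin l → ℤ) →+ (Fin l → ℤ)) (q : ℕ) : (Fin l → ℤ) →ₗ[ℤ] (Fin l → ℤ) :=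
  g.toIntLinearMap - (q : ℤ) • LinearMap.id

theorem gq_apply {l : ℕ} (g : (Fin l → ℤ) →+ (Fin l → ℤ)) (q : ℕ) (x : Fin l → ℤ) :
    gq g q x = g x - (q : ℤ) • x := rfl

section

variable {l : ℕ} {K : Type*} [Field K]

/-- the multiplicative characters with `φ (g x) = φ x ^ q` -/
def Cq (K : Type*) [Field K] {l : ℕ} (g : (Fin l → ℤ) →+ (Fin l → ℤ)) (q : ℕ) : Set ((Fin l → ℤ) → K) :=
  {φ | IsMC φ ∧ ∀ x, φ (g x) = φ x ^ q}

theorem exists_char {g : (Fin l → ℤ) →+ (Fin l → ℤ)} {q : ℕ} {φ : (Fin l → ℤ) → K} (hφ : φ ∈ Cq K g q) :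
    ∃ ψ : Multiplicative ((Fin l → ℤ) ⧸ LinearMap.range (gq g q)) →* K,
      ∀ x, ψ (Multiplicative.ofAdd (Submodule.Quotient.mk x)) = φ x := by
  obtain ⟨h1, h2⟩ := hφ
  let f : Multiplicative (Fin l → ℤ) →* Kˣ :=
    { toFun := fun x => Units.mk0 (φ x.toAdd) (h1.ne_zero _)
      map_one' := by
        apply Units.ext
        exact h1.zero
      map_mul' := fun a b => by
        apply Units.ext
        exact h1.add _ _ }
  let f' : (Fin l → ℤ) →+ Additive Kˣ := MonoidHom.toAdditiveRight f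
  have hf' : ∀ x, f' x = Additive.ofMul (Units.mk0 (φ x) (h1.ne_zero _)) := fun x => rfl
  let F : ((Fin l → ℤ) ⧸ LinearMap.range (gq g q)) →ₗ[ℤ] Additive Kˣ :=
    Submodule.liftQ (LinearMap.range (gq g q)) f'.toIntLinearMap (by
      rintro _ ⟨x, rfl⟩
      rw [LinearMap.mem_ker]
      show f' (gq g q x) = 0
      rw [hf', gq_apply]
      have h3 : φ (g x - (q : ℤ) • x) = 1 := by
        rw [h1.sub, h2, h1.zsmul, zpow_natCast, div_self (pow_ne_zero _ (h1.ne_zero x))]
      apply Additive.toMul.injective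
      apply Units.ext
      exact h3)
  let G : Multiplicative ((Fin l → ℤ) ⧸ LinearMap.range (gq g q)) →* Kˣ := AddMonoidHom.toMultiplicativeLeft F.toAddMonoidHom
  refine ⟨(Units.coeHom K).comp G, fun x => rfl⟩

theorem ncard_Cq_le {g : (Fin l → ℤ) →+ (Fin l → ℤ)} {q : ℕ} (hinj : ∀ x, g x = (q : ℤ) • x → x = 0) :
    Nat.card ↥(Cq K g q) ≤ (LinearMap.det (gq g q)).natAbs := by
  classical
  have hi : Function.Injective (gq g q) := by
    rw [← LinearMap.ker_eq_bot, LinearMap.ker_eq_bot']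
    intro x hx
    rw [gq_apply, sub_eq_zero] at hx
    exact hinj x hx
  let e := LinearEquiv.ofInjective (gq g q) hi
  have h1 := Submodule.natAbs_det_equiv (LinearMap.range (gq g q)) e
  have h2 : (LinearMap.range (gq g q)).subtype ∘ₗ AddMonoidHom.toIntLinearMap (e : (Fin l → ℤ) →+ _) = gq g q := by
    ext x
    rfl
  rw [h2] at h1
  have h3 : (LinearMap.det (gq g q)).natAbs ≠ 0 := by
    rw [Int.natAbs_ne_zero]
    intro h0
    exact (LinearMap.bot_lt_ker_of_det_eq_zero h0).ne' (LinearMap.ker_eq_bot.2 hi)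
  have h4 : Finite ((Fin l → ℤ) ⧸ LinearMap.range (gq g q)) :=
    Nat.finite_of_card_ne_zero (by rw [← h1]; exact h3)
  have h5 : Finite (Multiplicative ((Fin l → ℤ) ⧸ LinearMap.range (gq g q))) := h4
  have h6 : ∀ φ : ↥(Cq K g q), ∃ ψ : Multiplicative ((Fin l → ℤ) ⧸ LinearMap.range (gq g q)) →* K,
      ∀ x, ψ (Multiplicative.ofAdd (Submodule.Quotient.mk x)) = φ.1 x := fun φ => exists_char φ.2
  choose Ψ hΨ using h6
  have h7 : Function.Injective Ψ := by
    intro φ φ' e
    apply Subtype.ext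
    funext x
    rw [← hΨ, ← hΨ, e]
  have h8 : Finite (Multiplicative ((Fin l → ℤ) ⧸ LinearMap.range (gq g q)) →* K) := finite_hom _ K
  refine (Nat.card_le_card_of_injective Ψ h7).trans ?_
  refine (card_hom_le _ K).trans ?_
  rw [h1]
  exact le_of_eq (Nat.card_congr Multiplicative.toAdd)

theorem finite_Cq {g : (Fin l → ℤ) →+ (Fin l → ℤ)} {q : ℕ} (hinj : ∀ x, g x = (q : ℤ) • x → x = 0) :
    Finite ↥(Cq K g q) := by
  classical
  have hi : Function.Injective (gq g q) := by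
    rw [← LinearMap.ker_eq_bot, LinearMap.ker_eq_bot']
    intro x hx
    rw [gq_apply, sub_eq_zero] at hx
    exact hinj x hx
  let e := LinearEquiv.ofInjective (gq g q) hi
  have h1 := Submodule.natAbs_det_equiv (LinearMap.range (gq g q)) e
  have h2 : (LinearMap.range (gq g q)).subtype ∘ₗ AddMonoidHom.toIntLinearMap (e : (Fin l → ℤ) →+ _) = gq g q := by
    ext x
    rfl
  rw [h2] at h1
  have h3 : (LinearMap.det (gq g q)).natAbs ≠ 0 := by
    rw [Int.natAbs_ne_zero]
    intro h0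
    exact (LinearMap.bot_lt_ker_of_det_eq_zero h0).ne' (LinearMap.ker_eq_bot.2 hi)
  have h4 : Finite ((Fin l → ℤ) ⧸ LinearMap.range (gq g q)) :=
    Nat.finite_of_card_ne_zero (by rw [← h1]; exact h3)
  have h5 : Finite (Multiplicative ((Fin l → ℤ) ⧸ LinearMap.range (gq g q))) := h4
  have h6 : ∀ φ : ↥(Cq K g q), ∃ ψ : Multiplicative ((Fin l → ℤ) ⧸ LinearMap.range (gq g q)) →* K,
      ∀ x, ψ (Multiplicative.ofAdd (Submodule.Quotient.mk x)) = φ.1 x := fun φ => exists_char φ.2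
  choose Ψ hΨ using h6
  have h7 : Function.Injective Ψ := by
    intro φ φ' e
    apply Subtype.ext
    funext x
    rw [← hΨ, ← hΨ, e]
  have h8 : Finite (Multiplicative ((Fin l → ℤ) ⧸ LinearMap.range (gq g q)) →* K) := finite_hom _ K
  exact Finite.of_injective Ψ h7

end

section

variable {D : ChevalleyDatum} {l : ℕ} {M : CoxeterMatrix (Fin l)} (hp : IsType D l M) {k : Type u} [Field k]
  {W : Type*} [Group W] (cs : CoxeterSystem M W)

/-- a frame automorphism has finite order on the lattice -/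
theorem exists_period' {τ : MulAut ↥(D.group k)} {g : (Fin l → ℤ) ≃+ (Fin l → ℤ)}
    (F : Fr cs hp.isCartan (TT D k) (XX D l k) τ g) [Finite W] :
    ∃ N : ℕ, 0 < N ∧ ∀ x : Fin l → ℤ, g^[N] x = x := by
  obtain ⟨N, hN, h⟩ := exists_period F
  refine ⟨N, hN, fun x => ?_⟩
  have h1 : ∀ i, ∃ G : (Fin l → ℤ) →+ (Fin l → ℤ), ∀ x, G x = g^[i] x := by
    intro i
    induction i with
    | zero => exact ⟨AddMonoidHom.id _, fun x => rfl⟩
    | succ i ih =>
      obtain ⟨G, hG⟩ := ih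
      exact ⟨g.toAddMonoidHom.comp G, fun x => by rw [Function.iterate_succ_apply', ← hG x]; rfl⟩
  obtain ⟨G, hG⟩ := h1 N
  rw [← hG]
  rw [eq_sum_sr x, map_sum]
  refine Finset.sum_congr rfl fun i _ => ?_
  rw [map_zsmul, hG, h _ (isRoot_sr cs hp.isCartan i)]

theorem inj_of_fr {τ : MulAut ↥(D.group k)} {g : (Fin l → ℤ) ≃+ (Fin l → ℤ)}
    (F : Fr cs hp.isCartan (TT D k) (XX D l k) τ g) {q : ℕ} (hq : 1 < q) (x : Fin l → ℤ)
    (hx : g.toAddMonoidHom x = (q : ℤ) • x) : x = 0 := by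
  have := finite_W hp cs
  obtain ⟨N, hN, h⟩ := exists_period' hp cs F
  have hx' : g x = (q : ℤ) • x := hx
  have h1 : ∀ i, g^[i] x = ((q : ℤ) ^ i) • x := by
    intro i
    induction i with
    | zero => rw [Function.iterate_zero, id, pow_zero, one_smul]
    | succ i ih => rw [Function.iterate_succ_apply', ih, map_zsmul, hx', smul_smul, ← pow_succ]
  have h2 := h1 N
  rw [h x] at h2
  funext i
  have h3 := congrFun h2 i
  rw [Pi.smul_apply, smul_eq_mul] at h3
  rw [Pi.zero_apply]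
  have h4 : (1 : ℤ) < (q : ℤ) ^ N := by
    have h5 : 1 < q ^ N := Nat.one_lt_pow hN.ne' hq
    exact_mod_cast h5
  have h5 : ((q : ℤ) ^ N - 1) * x i = 0 := by linarith
  rcases mul_eq_zero.1 h5 with h6 | h6
  · omega
  · exact h6

/-- **The order of the rational points of the torus.** -/
theorem card_TF_le [IsAlgClosed k] {r e : ℕ} [Fact r.Prime] [CharP k r] (he : 0 < e)
    {τ : MulAut ↥(D.group k)} (hτ : IsFrob r e τ) {g : (Fin l → ℤ) ≃+ (Fin l → ℤ)}
    (F : Fr cs hp.isCartan (TT D k) (XX D l k) τ g) :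
    Finite ↥(TF D k τ) ∧ Nat.card ↥(TF D k τ) ≤ (LinearMap.det (gq g.toAddMonoidHom (r ^ e))).natAbs := by
  have hq : 1 < r ^ e := Nat.one_lt_pow he.ne' (Fact.out : r.Prime).one_lt
  have hi := inj_of_fr hp cs F hq
  let f : ↥(TF D k τ) → ↥(Cq k g.toAddMonoidHom (r ^ e)) := fun s => ⟨cX hp s.1, isMC_cX hp s.2.1, fun x => by
    have h1 := cX_sigma hp cs hτ F s.2.1 x
    have h2 : τ (s : ↥(D.group k)) = s := s.2.2
    rw [h2] at h1
    exact h1⟩
  have hf : Function.Injective f := by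
    intro s s' e
    apply Subtype.ext
    refine cX_inj hp s.2.1 s'.2.1 fun i => ?_
    exact congrFun (congrArg Subtype.val e) (sr i)
  have hfin := finite_Cq (K := k) hi
  exact ⟨Finite.of_injective f hf, (Nat.card_le_card_of_injective f hf).trans (ncard_Cq_le hi)⟩

end

end Cfsg.Agent.H972.CS.Torus
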