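import Cfsg.Agent.H972.CS.Frame
import Cfsg.Agent.H972.CS.Torus
import Cfsg.Agent.H129.TorusUntw

/-!
# Centralisers of elements of prime order: the formula (helper972)

`Y = D.group k`, `k` algebraically closed and locally finite of characteristic `r`, `σ` a Frobenius frame automorphism
with lattice map `g`, `x ∈ Y^σ`, `x ^ s = 1`, `s ≠ r` prime, `x` conjugate to an element of the torus.

* `bound` : there are `f : ℤ^l →+ ZMod s` (in a given set of representatives of the `W`-orbits) and `w ∈ W`, with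
  `f ∘ (w g) = q f`, `w g` preserving `Ψ+ = {a > 0 : f a = 0}`, and
  `|C(x)| ≤ |det (w g - q)| q^|Ψ+| ∑_v q^|{a ∈ Ψ+ : v a ≤ 0}|`, the sum over the `v ∈ W` with `f ∘ v = f` commuting with
  `w g`.
* `bound_setup` : the same for the groups with a `Setup`.
-/

set_option autoImplicit false
set_option linter.unusedSectionVars false

namespace Cfsg.Agent.H972.CS.Main

open CoxeterSystem Cfsg Cfsg.Lie Cfsg.Lie.ChevalleyDatum
open Cfsg.Agent.ChevalleyStructure Cfsg.Agent.ChevalleyStructure.Elts Cfsg.Agent.ChevalleyStructure.CoxeterGeom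
  Cfsg.Agent.ChevalleyStructure.CoxeterGeomTypes Cfsg.Agent.ChevalleyStructure.NPerm
open Cfsg.Agent.Tits.Roots Cfsg.Agent.Tits.Core Cfsg.Agent.Nodes Cfsg.Agent.Nodes.Reps Cfsg.Agent.Nodes.BNOf
  Cfsg.Agent.Nodes.RGDChev
open Cfsg.Agent.KFacts.RgdField Cfsg.Agent.KFacts.RgdChevCoord
open Cfsg.Agent.BpExc Cfsg.Agent.BpExc.TorCent Cfsg.Agent.BpExc.TorChev Cfsg.Agent.BpExc.Tow
  Cfsg.Agent.BpExc.TowChev Cfsg.Agent.BpExc.Fr Cfsg.Agent.BpExc.Pair Cfsg.Agent.BpExc.LangFr Cfsg.Agent.GpExc.Field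
  Cfsg.Agent.BpExc.NInst Cfsg.Agent.BpExc.NChev Cfsg.Agent.H129.TorusChar Cfsg.Agent.H129.TorusMain
  Cfsg.Agent.H129.TorusUntw Cfsg.Agent.H972.CS Cfsg.Agent.H972.CS.Count Cfsg.Agent.H972.CS.Torus

universe u v

section

variable {D : ChevalleyDatum} {l : ℕ} {M : CoxeterMatrix (Fin l)} (hp : IsType D l M) {k : Type u} [Field k]
  {W : Type*} [Group W] (cs : CoxeterSystem M W)

/-- The additive form of an element of prime order of the torus. -/
theorem exists_add [IsAlgClosed k] {s : ℕ} (hs : s.Prime) (hsk : (s : k) ≠ 0) {t : ↥(D.group k)} (ht : t ∈ TT D k)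
    (hts : t ^ s = 1) : ∃ f : (Fin l → ℤ) →+ ZMod s, ∀ x, cX hp t x = 1 ↔ f x = 0 := by
  classical
  have : Fact s.Prime := ⟨hs⟩
  have : NeZero (s : k) := ⟨hsk⟩
  have : NeZero s := ⟨hs.ne_zero⟩
  obtain ⟨ζ, hζ⟩ := HasEnoughRootsOfUnity.exists_primitiveRoot k s
  have h1 : ∀ i : Fin l, ∃ j < s, ζ ^ j = cX hp t (sr i) := by
    intro i
    refine hζ.eq_pow_of_pow_eq_one ?_
    rw [← cX_pow hp ht, hts, cX_one]
  choose j hj hj' using h1
  let f : (Fin l → ℤ) →+ ZMod s :=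
    { toFun := fun x => ∑ i, (x i : ZMod s) * (j i : ZMod s)
      map_zero' := by simp
      map_add' := fun x y => by
        rw [← Finset.sum_add_distrib]
        refine Finset.sum_congr rfl fun i _ => ?_
        rw [Pi.add_apply, Int.cast_add, add_mul] }
  have hf : ∀ i, f (sr i) = (j i : ZMod s) := by
    intro i
    show ∑ i', ((sr i : Fin l → ℤ) i' : ZMod s) * (j i' : ZMod s) = _
    rw [Finset.sum_eq_single i]
    · simp [sr]
    · intro b _ hb
      simp [sr, hb]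
    · intro h; exact absurd (Finset.mem_univ i) h
  have hζ1 : ∀ n : ℕ, ζ ^ (n % s) = ζ ^ n := fun n => by
    conv_rhs => rw [← Nat.mod_add_div n s, pow_add, pow_mul, hζ.pow_eq_one, one_pow, mul_one]
  have hψ : IsMC (fun x : Fin l → ℤ => ζ ^ (f x).val) :=
    { zero := by
        show ζ ^ (f 0).val = 1
        rw [map_zero, ZMod.val_zero, pow_zero]
      add := fun x y => by
        show ζ ^ (f (x + y)).val = ζ ^ (f x).val * ζ ^ (f y).val
        rw [map_add, ZMod.val_add, hζ1, pow_add] }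
  have key : ∀ x, cX hp t x = ζ ^ (f x).val := by
    refine fun x => (isMC_cX hp ht).ext hψ (fun i => ?_) x
    rw [hf, ZMod.val_natCast, hζ1, hj']
  refine ⟨f, fun x => ?_⟩
  rw [key, hζ.pow_eq_one_iff_dvd]
  constructor
  · intro h
    have h2 := ZMod.val_lt (f x)
    have h3 := Nat.eq_zero_of_dvd_of_lt h h2
    exact (ZMod.val_eq_zero _).1 h3
  · intro h
    rw [h, ZMod.val_zero]
    exact dvd_zero _

/-- the positive roots killed by `f` -/
def psi {A : Fin l → Fin l → ℤ} (cs : CoxeterSystem M W) (h : IsCartan M A) {s : ℕ} (f : (Fin l → ℤ) →+ ZMod s) :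
    Set (Fin l → ℤ) :=
  {a | IsRoot cs h a ∧ 0 ≤ a ∧ f a = 0}

/-- the positive roots killed by `f` made negative by `v` -/
def psiN {A : Fin l → Fin l → ℤ} (cs : CoxeterSystem M W) (h : IsCartan M A) {s : ℕ} (f : (Fin l → ℤ) →+ ZMod s)
    (v : W) : Set (Fin l → ℤ) :=
  {a | IsRoot cs h a ∧ 0 ≤ a ∧ f a = 0 ∧ rep cs h v a ≤ 0}

/-- the data attached to an element of prime order: `θ = w g`, `f ∘ θ = q f`, `θ Ψ+ ≥ 0` -/
structure Pair (cs : CoxeterSystem M W) (g : (Fin l → ℤ) ≃+ (Fin l → ℤ)) (q s : ℕ)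
    (f : (Fin l → ℤ) →+ ZMod s) (w : W) : Prop where
  mul : ∀ y, f (theta hp cs w g y) = q • f y
  pos : ∀ a, IsRoot cs hp.isCartan a → 0 ≤ a → f a = 0 → 0 ≤ theta hp cs w g a

/-- the value of the formula, over a set `Cw` of elements of `W` -/
noncomputable def val (cs : CoxeterSystem M W) (g : (Fin l → ℤ) ≃+ (Fin l → ℤ)) (q : ℕ) {s : ℕ}
    (f : (Fin l → ℤ) →+ ZMod s) (w : W) (Cw : Finset W) : ℕ :=
  (LinearMap.det (gq (theta hp cs w g) q)).natAbs * (q ^ (psi cs hp.isCartan f).ncard *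
    ∑ v ∈ Cw, q ^ (psiN cs hp.isCartan f v).ncard)

/-- `Cw` contains the elements of `W` fixing `f` and commuting with `w g` -/
def Cov (cs : CoxeterSystem M W) (g : (Fin l → ℤ) ≃+ (Fin l → ℤ)) {s : ℕ}
    (f : (Fin l → ℤ) →+ ZMod s) (w : W) (Cw : Finset W) : Prop :=
  ∀ v, (∀ y, f (rep cs hp.isCartan v y) = f y) →
    (∀ y, rep cs hp.isCartan v (theta hp cs w g y) = theta hp cs w g (rep cs hp.isCartan v y)) → v ∈ Cw

/-- every `f` is conjugate to a member of `Rf` -/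
def Meets (cs : CoxeterSystem M W) {s : ℕ} (Rf : Set ((Fin l → ℤ) →+ ZMod s)) : Prop :=
  ∀ f : (Fin l → ℤ) →+ ZMod s, ∃ v : W, f.comp (rep cs hp.isCartan v).toAddMonoidHom ∈ Rf

/-- **The formula.** -/
theorem bound [IsAlgClosed k] (hk : LocFin k) {r e : ℕ} [Fact r.Prime] [CharP k r] (he : 0 < e)
    {σ : MulAut ↥(D.group k)} (hσ : IsFrob r e σ) {g : (Fin l → ℤ) ≃+ (Fin l → ℤ)}
    (F : Fr cs hp.isCartan (TT D k) (XX D l k) σ g) {d' : ℕ} {B' : Fin l → Fin l → ℤ} (hB : InvC D l d' B')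
    (hd' : d' ≠ 0) {s : ℕ} (hs : s.Prime) (hsr : s ≠ r) {Rf : Set ((Fin l → ℤ) →+ ZMod s)}
    (hRf : Meets hp cs Rf) {x z t : ↥(D.group k)} (hx : σ x = x) (hxs : x ^ s = 1) (hx1 : x ≠ 1) (ht : t ∈ TT D k)
    (e0 : z⁻¹ * x * z = t) [Finite ↥(fixC σ x)] :
    ∃ f ∈ Rf, f ≠ 0 ∧ ∃ w : W, Pair hp cs g (r ^ e) s f w ∧
      ∀ Cw : Finset W, Cov hp cs g f w Cw → Nat.card ↥(fixC σ x) ≤ val hp cs g (r ^ e) f w Cw := by
  classical
  have := finite_W hp cs
  have hN : NSys M (TT D k) (nc hp k) := nsys_of_locFin hp cs hk r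
  have hsk : (s : k) ≠ 0 := by
    intro h0
    have h1 := (CharP.cast_eq_zero_iff k r s).1 h0
    exact hsr ((Nat.prime_dvd_prime_iff_eq (Fact.out : r.Prime) hs).1 h1).symm
  have hts : t ^ s = 1 := by
    have e1 : t = z⁻¹ * x * z⁻¹⁻¹ := by rw [inv_inv, e0]
    rw [e1, conj_pow, hxs, mul_one, inv_inv, inv_mul_cancel]
  -- the conjugate of `t`
  obtain ⟨f0, hf0⟩ := exists_add hp hs hsk ht hts
  obtain ⟨v0, hv0⟩ := hRf f0
  have H := tow (k := k) hp cs hk r
  obtain ⟨m, -, hm0⟩ := H.exists_rp v0⁻¹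
  have hm : Rp cs hN v0⁻¹ m := by
    have key : ∀ (T : Subgroup ↥(D.group k)) (h1 : NSys M T (nc hp k)) (h2 : T = TT D k),
        Rp cs h1 v0⁻¹ m → Rp cs hN v0⁻¹ m := by
      intro T h1 h2 h3
      subst h2
      exact h3
    exact key _ _ (TL_eq hp hk) hm0
  set t1 : ↥(D.group k) := m * t * m⁻¹ with ht1
  have ht1T : t1 ∈ TT D k := (Subgroup.mem_normalizer_iff.1 hm.mem_normalizer t).1 ht
  set f : (Fin l → ℤ) →+ ZMod s := f0.comp (rep cs hp.isCartan v0).toAddMonoidHom with hf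
  have hcX : ∀ y, cX hp t1 y = 1 ↔ f y = 0 := by
    intro y
    have h1 := cX_rp hp cs hk r hm ht (rep cs hp.isCartan v0 y)
    rw [rep_inv_apply] at h1
    rw [ht1, h1]
    exact hf0 _
  have e1 : x = z * m⁻¹ * t1 * (z * m⁻¹)⁻¹ := by
    rw [ht1, ← e0]; group
  obtain ⟨z2, n, w, e2, e3, hn, hnt, hpos⟩ := frame_of hp cs hk he hσ F hB hd' hN hx ht1T e1
  refine ⟨f, hv0, ?_, w, ⟨?_, ?_⟩, ?_⟩
  · intro hf00
    apply hx1
    have h2 : t1 = 1 := by
      refine cX_inj hp ht1T (one_mem _) fun i => ?_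
      rw [cX_one, hcX, hf00]
      rfl
    rw [e1, h2]; group
  · intro y
    have h1 := (tau_iff hp cs hk hσ F hn ht1T).1 hnt y
    have hM := isMC_cX hp ht1T
    have h2 : cX hp t1 (theta hp cs w g y - (r ^ e) • y) = 1 := by
      rw [hM.sub, h1, hM.nsmul, div_self (pow_ne_zero _ (hM.ne_zero y))]
    rw [hcX, map_sub, sub_eq_zero, map_nsmul] at h2
    exact h2
  · intro a ha h0 hfa
    refine hpos a ⟨ha, ?_⟩ h0
    rw [← cX_root hp cs ht1T ha]
    exact (hcX a).2 hfa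
  · intro Cw hCw
    -- the twisted frame automorphism
    have Fτ : Fr cs hp.isCartan (TT D k) (XX D l k) (MulAut.conj n * σ) (g.trans (repAut cs hp.isCartan w)) :=
      (Cfsg.Agent.H720.TorusReal.fr_conj hp cs hk r hn).mul F
    have hτσ : IsFrob r e (MulAut.conj n * σ) := hσ.conj_mul _
    have hτt : (MulAut.conj n * σ) t1 = t1 := hnt
    have E : ↥(fixC (MulAut.conj n * σ) t1) ≃* ↥(fixC σ x) :=
      fixEquiv (z := z2) (by rw [e2]; group) e3.symm
    have hfin : Finite ↥(fixC (MulAut.conj n * σ) t1) := Finite.of_equiv _ E.symm.toEquiv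
    have hSx : ∀ a, a ∈ Sx cs hp.isCartan (ch hp) t1 ↔ IsRoot cs hp.isCartan a ∧ f a = 0 := by
      intro a
      constructor
      · rintro ⟨ha, h1⟩
        exact ⟨ha, (hcX a).1 (by rw [cX_root hp cs ht1T ha]; exact h1)⟩
      · rintro ⟨ha, h1⟩
        exact ⟨ha, by rw [← cX_root hp cs ht1T ha]; exact (hcX a).2 h1⟩
    have hmain := card_fixC_le hp cs hk ht1T he hτσ Fτ hτt hpos Cw (fun v hv1 hv2 => by
      refine hCw v ?_ ?_
      · have h3 : ∀ i, f (rep cs hp.isCartan v (sr i)) = f (sr i) := by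
          intro i
          have hri := isRoot_sr cs hp.isCartan i
          have h4 := hv1 _ hri
          have hM := isMC_cX hp ht1T
          rw [← cX_root hp cs ht1T (hri.act v), ← cX_root hp cs ht1T hri] at h4
          have h5 : cX hp t1 (rep cs hp.isCartan v (sr i) - sr i) = 1 := by
            rw [hM.sub, h4, div_self (hM.ne_zero _)]
          rw [hcX, map_sub, sub_eq_zero] at h5
          exact h5
        intro y
        rw [eq_sum_sr y, map_sum, map_sum, map_sum]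
        refine Finset.sum_congr rfl fun i _ => ?_
        rw [map_zsmul, map_zsmul, map_zsmul, h3]
      · have h3 : ∀ i, rep cs hp.isCartan v (theta hp cs w g (sr i)) = theta hp cs w g (rep cs hp.isCartan v (sr i)) :=
          fun i => hv2 _ (isRoot_sr cs hp.isCartan i)
        intro y
        rw [eq_sum_sr y, map_sum, map_sum, map_sum, map_sum]
        refine Finset.sum_congr rfl fun i _ => ?_
        rw [map_zsmul, map_zsmul, map_zsmul, map_zsmul, h3])
    rw [← Nat.card_congr E.toEquiv]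
    refine hmain.trans ?_
    have hT := (card_TF_le hp cs he hτσ Fτ).2
    have e5 : (g.trans (repAut cs hp.isCartan w)).toAddMonoidHom = theta hp cs w g := rfl
    rw [e5] at hT
    have e6 : SP (Sx cs hp.isCartan (ch hp) t1) = psi cs hp.isCartan f := by
      ext a
      constructor
      · rintro ⟨h1, h2⟩
        exact ⟨((hSx a).1 h1).1, h2, ((hSx a).1 h1).2⟩
      · rintro ⟨h1, h2, h3⟩
        exact ⟨(hSx a).2 ⟨h1, h3⟩, h2⟩
    have e7 : ∀ v : W, NormalForm.NW cs hp.isCartan v ∩ Sx cs hp.isCartan (ch hp) t1 = psiN cs hp.isCartan f v := by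
      intro v
      ext a
      constructor
      · rintro ⟨⟨h1, h2, h3⟩, h4⟩
        exact ⟨h1, h2, ((hSx a).1 h4).2, h3⟩
      · rintro ⟨h1, h2, h3, h4⟩
        exact ⟨⟨h1, h2, h4⟩, (hSx a).2 ⟨h1, h3⟩⟩
    rw [e6]
    simp only [e7]
    exact Nat.mul_le_mul_right _ hT

end

section

open Cfsg.Agent.H795.Core

variable {D : ChevalleyDatum} {l : ℕ} {M : CoxeterMatrix (Fin l)} {hp : IsType D l M}
  {k : Type u} [Field k] [IsAlgClosed k] (hk : LocFin k) {r : ℕ} [Fact r.Prime] [CharP k r]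
  {G : Type v} [Group G] [Finite G] {p e : ℕ} {φ : G →* ↥(D.group k)} {σ : MulAut ↥(D.group k)}
  {g : (Fin l → ℤ) ≃+ (Fin l → ℤ)}

include hk in
/-- **The formula for the groups with a `Setup`.** -/
theorem bound_setup (h : Setup hp p r e φ σ g) {d' : ℕ} {B' : Fin l → Fin l → ℤ} (hB : InvC D l d' B')
    (hd' : d' ≠ 0) {s : ℕ} (hs : s.Prime) (hsr : s ≠ r) {Rf : Set ((Fin l → ℤ) →+ ZMod s)}
    (hRf : Meets hp M.toCoxeterSystem Rf) {x : G} (hxs : x ^ s = 1) (hx1 : x ≠ 1) {z t : ↥(D.group k)}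
    (hz : z⁻¹ * φ x * z = t) (ht : t ∈ TT D k) :
    ∃ f ∈ Rf, f ≠ 0 ∧ ∃ w : M.Group, Pair hp M.toCoxeterSystem g (r ^ e) s f w ∧
      ∀ Cw : Finset M.Group, Cov hp M.toCoxeterSystem g f w Cw →
        Nat.card ↥(Subgroup.centralizer {x}) ≤ val hp M.toCoxeterSystem g (r ^ e) f w Cw := by
  classical
  have hfin : Finite ↥(fixC σ (φ x)) := by
    have := h.fin
    exact Finite.of_injective (fun y : ↥(fixC σ (φ x)) => (⟨y.1, (mem_fixC.1 y.2).1⟩ : {y : ↥(D.group k) // σ y = y}))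
      (fun a b hab => Subtype.ext (congrArg (fun z : {y : ↥(D.group k) // σ y = y} => z.1) hab))
  obtain ⟨f, h1, h2, w, h3, h4⟩ := bound hp M.toCoxeterSystem hk h.e_pos h.frob h.fr hB hd' hs hsr hRf (h.fix x)
    (by rw [← map_pow, hxs, map_one]) (fun h0 => hx1 (h.inj (by rw [h0, map_one]))) ht hz
  refine ⟨f, h1, h2, w, h3, fun Cw hCw => le_trans ?_ (h4 Cw hCw)⟩
  let F : ↥(Subgroup.centralizer {x}) → ↥(fixC σ (φ x)) := fun y => ⟨φ y, mem_fixC.2 ⟨h.fix y, by
    rw [← map_mul, ← map_mul, Subgroup.mem_centralizer_singleton_iff.1 y.2]⟩⟩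
  refine Nat.card_le_card_of_injective F fun a b hab => ?_
  apply Subtype.ext
  apply h.inj
  exact congrArg (fun z : ↥(fixC σ (φ x)) => (z : ↥(D.group k))) hab

end

end Cfsg.Agent.H972.CS.Main
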