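import Cfsg.Agent.H972.CS.E6Link
import Cfsg.Agent.H38.CS.Gen
import Cfsg.Agent.S1063

/-!
# The elements of order 5 and 7 of `E₆(2)` (helper972)

* `chk6`, `e6_cent` : the bound for the centralisers in `E₆(q)` from the kernel evaluation, any `q`;
* `two_five`, `two_seven` : `|C(x)| ≤ 259200`, `1479389184` for `x` of order `5`, `7` in `E₆(2)`;
* `cG_five`, `cG_seven` : the classes have at least `2 ^ 59`, `2 ^ 47` elements.
-/

set_option autoImplicit false
set_option linter.unusedSectionVars false

namespace Cfsg.Agent.H972.CS.E6Five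

open CoxeterSystem Cfsg Cfsg.Lie Cfsg.Lie.ChevalleyDatum
open Cfsg.Agent.ChevalleyStructure Cfsg.Agent.ChevalleyStructure.Elts Cfsg.Agent.ChevalleyStructure.CoxeterGeom
  Cfsg.Agent.ChevalleyStructure.CoxeterGeomTypes Cfsg.Agent.ChevalleyStructure.NPerm
open Cfsg.Agent.Tits.Roots Cfsg.Agent.Tits.Core Cfsg.Agent.Nodes Cfsg.Agent.Nodes.Reps Cfsg.Agent.Nodes.BNOf
  Cfsg.Agent.Nodes.RGDChev Cfsg.Agent.H129.TorusChar Cfsg.Agent.H129.TorusUntw
open Cfsg.Agent.H972.CS.Main Cfsg.Agent.H972.CS.Eval Cfsg.Agent.H972.CS.LinkOf Cfsg.Agent.H972.CS.E6Link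

universe u

theorem isE6 : IsType chevE6 6 CoxeterMatrix.E₆ := by simp [IsType, typeList]

/-- the check at a Kac point -/
def chkP (ε : ℤ) (q s K : ℕ) (fl : List ℤ) : Bool := (fl.all fun c => c % (s : ℤ) == 0) || data6.ok 6 q s ε K fl

/-- the check at all Kac points -/
def chk6 (ε : ℤ) (q s K : ℕ) : Bool := (kac6 s).all (chkP ε q s K)

/-- the check in portions -/
theorem all_of_chunks {α : Type*} (p : α → Bool) (L : List α) (m : ℕ) : ∀ n : ℕ,
    (∀ i < n, ((L.drop (m * i)).take m).all p = true) → (L.drop (m * n)).all p = true → L.all p = true := by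
  intro n
  induction n with
  | zero => intro _ h2; simpa using h2
  | succ n ih =>
    intro h1 h2
    refine ih (fun i hi => h1 i (by omega)) ?_
    have h3 : (L.drop (m * n)).all p =
        (((L.drop (m * n)).take m).all p && ((L.drop (m * n)).drop m).all p) := by
      conv_lhs => rw [← List.take_append_drop m (L.drop (m * n)), List.all_append]
    rw [h3, h1 n (by omega), Bool.true_and, List.drop_drop]
    exact h2

theorem zero_or_ok {ε : ℤ} {q s K : ℕ} (hc : chk6 ε q s K = true) {fl : List ℤ} (hfl : fl ∈ kac6 s)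
    {f : (Fin 6 → ℤ) →+ ZMod s} (hf : ∀ i : Fin 6, f (sr i) = ((fl.getD i 0 : ℤ) : ZMod s)) (hf0 : f ≠ 0) :
    data6.ok 6 q s ε K fl = true := by
  have hl := kac_length hfl
  unfold chk6 at hc
  rw [List.all_eq_true] at hc
  have h1 := hc fl hfl
  rw [chkP, Bool.or_eq_true] at h1
  rcases h1 with h1 | h1
  · exfalso
    apply hf0
    rw [List.all_eq_true] at h1
    refine AddMonoidHom.ext fun y => ?_
    rw [eq_sum_sr y, map_sum]
    refine Finset.sum_eq_zero fun i _ => ?_
    have h2 : fl.getD i 0 ∈ fl := by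
      rw [List.getD_eq_getElem _ _ (by rw [hl]; exact i.2)]
      exact List.getElem_mem _
    have h3 := h1 _ h2
    rw [beq_iff_eq] at h3
    rw [map_zsmul, hf, eq_of_mod h3, smul_zero]
  · exact h1

/-- **Centralisers in `E₆(q)` from the kernel evaluation.** -/
theorem e6_cent {F : Type u} [Field F] [Fintype F] {q s K : ℕ} (hF : Fintype.card F = q) (hs : s.Prime)
    (hsF : (s : F) ≠ 0) (hc : chk6 1 q s K = true) {x : ↥(chevE6.group F)} (hx : orderOf x = s) :
    Nat.card ↥(Subgroup.centralizer {x}) ≤ K := by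
  subst hF
  refine Cfsg.Agent.H38.CS.cent_le isE6 invC_E6 three_ne_zero (Or.inr Nat.prime_three) hs hsF (meets6 isE6 hs.pos)
    (link6 isE6 _) (gok_one isE6 _) ?_ hx
  rintro f ⟨fl, hfl, hf⟩ hf0
  exact ⟨fl, kac_length hfl, hf, zero_or_ok hc hfl hf hf0⟩

set_option maxRecDepth 1000000 in
theorem c5_0 : (((kac6 5).drop (26 * 0)).take 26).all (chkP 1 2 5 259200) = true := by decide +kernel
set_option maxRecDepth 1000000 in
theorem c5_1 : (((kac6 5).drop (26 * 1)).take 26).all (chkP 1 2 5 259200) = true := by decide +kernel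
set_option maxRecDepth 1000000 in
theorem c5_2 : (((kac6 5).drop (26 * 2)).take 26).all (chkP 1 2 5 259200) = true := by decide +kernel
set_option maxRecDepth 1000000 in
theorem c5_3 : ((kac6 5).drop (26 * 3)).all (chkP 1 2 5 259200) = true := by decide +kernel

theorem c5 : chk6 1 2 5 259200 = true := by
  refine all_of_chunks _ _ 26 3 (fun i hi => ?_) c5_3
  interval_cases i
  · exact c5_0
  · exact c5_1
  · exact c5_2

set_option maxRecDepth 1000000 in
theorem c7_0 : (((kac6 7).drop (40 * 0)).take 40).all (chkP 1 2 7 1479389184) = true := by decide +kernel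
set_option maxRecDepth 1000000 in
theorem c7_1 : (((kac6 7).drop (40 * 1)).take 40).all (chkP 1 2 7 1479389184) = true := by decide +kernel
set_option maxRecDepth 1000000 in
theorem c7_2 : (((kac6 7).drop (40 * 2)).take 40).all (chkP 1 2 7 1479389184) = true := by decide +kernel
set_option maxRecDepth 1000000 in
theorem c7_3 : (((kac6 7).drop (40 * 3)).take 40).all (chkP 1 2 7 1479389184) = true := by decide +kernel
set_option maxRecDepth 1000000 in
theorem c7_4 : (((kac6 7).drop (40 * 4)).take 40).all (chkP 1 2 7 1479389184) = true := by decide +kernel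
set_option maxRecDepth 1000000 in
theorem c7_5 : ((kac6 7).drop (40 * 5)).all (chkP 1 2 7 1479389184) = true := by decide +kernel

theorem c7 : chk6 1 2 7 1479389184 = true := by
  refine all_of_chunks _ _ 40 5 (fun i hi => ?_) c7_5
  interval_cases i
  · exact c7_0
  · exact c7_1
  · exact c7_2
  · exact c7_3
  · exact c7_4

theorem cast_ne {F : Type u} [Field F] [Fintype F] (hF : Fintype.card F = 2) {s : ℕ} (hs : s % 2 = 1) :
    (s : F) ≠ 0 := by
  have h2 : (2 : F) = 0 := by
    have h1 := FiniteField.cast_card_eq_zero F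
    rw [hF] at h1
    exact_mod_cast h1
  have h3 : (s : F) = 1 := by
    have h4 : s = 2 * (s / 2) + 1 := by omega
    rw [h4]
    push_cast
    rw [h2, zero_mul, zero_add]
  rw [h3]
  exact one_ne_zero

variable {F : Type u} [Field F] [Fintype F] (hF : Fintype.card F = 2)

include hF

theorem two_five {x : ↥(chevE6.group F)} (hx : orderOf x = 5) :
    Nat.card ↥(Subgroup.centralizer {x}) ≤ 259200 :=
  e6_cent hF Nat.prime_five (cast_ne hF rfl) c5 hx

theorem two_seven {x : ↥(chevE6.group F)} (hx : orderOf x = 7) :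
    Nat.card ↥(Subgroup.centralizer {x}) ≤ 1479389184 :=
  e6_cent hF (by norm_num) (cast_ne hF rfl) c7 hx

theorem card_e6 : Nat.card ↥(chevE6.group F) = 214841575522005575270400 := by
  have h := Cfsg.Agent.S1063.result hF
  norm_num at h
  exact h

/-- **The classes of the elements of order 5 of `E₆(2)`.** -/
theorem cG_five (x : ↥(chevE6.group F)) (hx : orderOf x = 5) : 2 ^ 59 ≤ Cfsg.Agent.H742.EX.cG x := by
  have hfin : Finite ↥(chevE6.group F) := Nat.finite_of_card_ne_zero (by
    rw [card_e6 hF]; norm_num)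
  exact Cfsg.Agent.H38.CS.cG_ge (two_five hF hx) (by rw [card_e6 hF]; norm_num)

/-- **The classes of the elements of order 7 of `E₆(2)`.** -/
theorem cG_seven (x : ↥(chevE6.group F)) (hx : orderOf x = 7) : 2 ^ 47 ≤ Cfsg.Agent.H742.EX.cG x := by
  have hfin : Finite ↥(chevE6.group F) := Nat.finite_of_card_ne_zero (by
    rw [card_e6 hF]; norm_num)
  exact Cfsg.Agent.H38.CS.cG_ge (two_seven hF hx) (by rw [card_e6 hF]; norm_num)

end Cfsg.Agent.H972.CS.E6Five
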