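import Cfsg.Agent.H972.CS.TwE6Three
import Cfsg.Agent.H972.CS.E6Five

/-!
# The elements of order 7 of `²E₆(2)` (helper972)

* `te6_cent` : centralisers in `²E₆(q)` from the kernel evaluation;
* `cent_seven` : `|C(x)| ≤ 846720` for `x` of order 7 in the simple group `²E₆(2)`;
* `cG_seven` : the class of `x` has at least `2 ^ 56` elements.
-/

set_option autoImplicit false
set_option linter.unusedSectionVars false

namespace Cfsg.Agent.H972.CS.TwE6Seven

open CoxeterSystem Cfsg Cfsg.Lie Cfsg.Lie.ChevalleyDatum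
open Cfsg.Agent.ChevalleyStructure Cfsg.Agent.ChevalleyStructure.Elts Cfsg.Agent.ChevalleyStructure.CoxeterGeom
  Cfsg.Agent.ChevalleyStructure.CoxeterGeomTypes Cfsg.Agent.ChevalleyStructure.NPerm
open Cfsg.Agent.Tits.Roots Cfsg.Agent.Tits.Core Cfsg.Agent.Nodes Cfsg.Agent.Nodes.Reps Cfsg.Agent.Nodes.BNOf
  Cfsg.Agent.Nodes.RGDChev
open Cfsg.Agent.KFacts.RgdField Cfsg.Agent.KFacts.RgdChevCoord
open Cfsg.Agent.BpExc Cfsg.Agent.BpExc.Pair Cfsg.Agent.BpExc.NChev Cfsg.Agent.H129.TorusChar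
  Cfsg.Agent.H129.TorusMain Cfsg.Agent.H129.TorusUntw
  Cfsg.Agent.H972.CS.Main Cfsg.Agent.H972.CS.MainTwo Cfsg.Agent.H972.CS.Eval Cfsg.Agent.H972.CS.LinkOf
  Cfsg.Agent.H972.CS.E6Link Cfsg.Agent.H795.Core Cfsg.Agent.H720.TwFr Cfsg.Agent.H972.CS.TwE6Three
  Cfsg.Agent.H972.CS.E6Five

universe u v

/-- **Centralisers in `²E₆(q)` from the kernel evaluation.** -/
theorem te6_cent {K : Type u} [Field K] [Fintype K] {q s N : ℕ} (hq : IsPrimePow q) (hK : Fintype.card K = q ^ 2)
    (hs : s.Prime) (hsq : ¬ s ∣ q) (hc : chk6 (-1) q s N = true) {x : ↥(twistedE6 K q)} (hx : orderOf x = s) :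
    Nat.card ↥(Subgroup.centralizer {x}) ≤ N := by
  classical
  obtain ⟨r, n, hr, hrF, hrk, hn0, hn, hk⟩ := Cfsg.Agent.H795.Tw.exists_closure_q (K := K) (q := q) two_ne_zero
    hq (by rw [hK])
  have hsr : s ≠ r := by
    rintro rfl
    exact hsq (hn ▸ dvd_pow_self s hn0.ne')
  have : Fact (Nat.Prime 5) := ⟨by norm_num⟩
  have hset := Cfsg.Agent.H795.Tw.setup_six (q := q) (algebraMap K (AlgebraicClosure K)) r hk hn0 hn
    (by rw [hK]) (p := 5) (by norm_num)
  have hx3 : x ^ s = 1 := by rw [← hx, pow_orderOf_eq_one]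
  have hx1 : x ≠ 1 := by
    rintro rfl
    rw [orderOf_one] at hx
    exact hs.one_lt.ne hx
  set φ := em6 q (algebraMap K (AlgebraicClosure K)) with hφ
  have hφ3 : (φ x) ^ s = 1 := by rw [← map_pow, hx3, map_one]
  have hφ1 : φ x ≠ 1 := fun h0 => hx1 (hset.inj (by rw [h0, map_one]))
  let _ := ZMod.algebra K r
  have h1 : Algebra.IsAlgebraic (ZMod r) K := Algebra.IsAlgebraic.of_finite _ _
  have h2 : Algebra.IsAlgebraic (ZMod r) (AlgebraicClosure K) := Algebra.IsAlgebraic.trans (ZMod r) K _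
  obtain ⟨z, hz⟩ := TorAll.exists_toral' hp6 r (y := φ x) hs hsr hφ3
  obtain ⟨f, ⟨fl, hfl, hf⟩, hf0, w, hP, hC⟩ := bound_setup hk hset invC_E6 three_ne_zero hs hsr
    (meets6 hp6 (s := s) hs.pos) hx3 hx1 rfl hz
  obtain ⟨v', hv'⟩ := Cfsg.Agent.H696.GmnTwE6.neg_graph hp6 CoxeterMatrix.E₆.toCoxeterSystem
  have hok : data6.ok 6 (r ^ n) s (-1) N fl = true := by
    rw [← hn]
    exact zero_or_ok hc hfl hf hf0
  have hfinW := finite_W hp6 CoxeterMatrix.E₆.toCoxeterSystem
  have hs' := hs.pos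
  obtain ⟨Cw, hCw, hle⟩ := ok_sound (link6 hp6 CoxeterMatrix.E₆.toCoxeterSystem)
    (gok_neg hp6 CoxeterMatrix.E₆.toCoxeterSystem hv') (pow_pos (Fact.out : r.Prime).pos n) (kac_length hfl) hf hP hok
  exact (hC Cw hCw).trans hle

set_option maxRecDepth 1000000 in
theorem c7_0 : (((kac6 7).drop (40 * 0)).take 40).all (chkP (-1) 2 7 846720) = true := by decide +kernel
set_option maxRecDepth 1000000 in
theorem c7_1 : (((kac6 7).drop (40 * 1)).take 40).all (chkP (-1) 2 7 846720) = true := by decide +kernel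
set_option maxRecDepth 1000000 in
theorem c7_2 : (((kac6 7).drop (40 * 2)).take 40).all (chkP (-1) 2 7 846720) = true := by decide +kernel
set_option maxRecDepth 1000000 in
theorem c7_3 : (((kac6 7).drop (40 * 3)).take 40).all (chkP (-1) 2 7 846720) = true := by decide +kernel
set_option maxRecDepth 1000000 in
theorem c7_4 : (((kac6 7).drop (40 * 4)).take 40).all (chkP (-1) 2 7 846720) = true := by decide +kernel
set_option maxRecDepth 1000000 in
theorem c7_5 : ((kac6 7).drop (40 * 5)).all (chkP (-1) 2 7 846720) = true := by decide +kernel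

theorem c7 : chk6 (-1) 2 7 846720 = true := by
  refine all_of_chunks _ _ 40 5 (fun i hi => ?_) c7_5
  interval_cases i
  · exact c7_0
  · exact c7_1
  · exact c7_2
  · exact c7_3
  · exact c7_4

/-- **The centralisers of the elements of order 7 of `²E₆(2)`.** -/
theorem cent_seven {K : Type u} [Field K] [Fintype K] (hK : Fintype.card K = 4) {x : ↥(twistedE6 K 2)}
    (hx : orderOf x = 7) : Nat.card ↥(Subgroup.centralizer {x}) ≤ 846720 :=
  te6_cent Nat.prime_two.isPrimePow (by rw [hK]; norm_num) (by norm_num) (by norm_num) c7 hx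

/-- **The classes of the elements of order 7 of `²E₆(2)`.** -/
theorem cG_seven {K : Type u} [Field K] [Fintype K] (hK : Fintype.card K = 4) (x : ↥(twistedE6 K 2))
    (hx : orderOf x = 7) : 2 ^ 56 ≤ Cfsg.Agent.H742.EX.cG x := by
  have : Finite ↥(twistedE6 K 2) := Nat.finite_of_card_ne_zero (by rw [card_te hK]; norm_num)
  exact Cfsg.Agent.H38.CS.cG_ge (cent_seven hK hx) (by rw [card_te hK]; norm_num)

end Cfsg.Agent.H972.CS.TwE6Seven
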