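import Cfsg.Agent.H972.CS.Main

/-!
# The centraliser formula with the frame (helper972)

* `bound_frame` : `Main.bound` together with `x = z₂ t₁ z₂⁻¹`, `z₂⁻¹ σ(z₂) = n` a representative of `w`,
  `cX t₁ y = 1 ↔ f y = 0`, `cX t₁ y = cX t (v y)`.
-/

set_option autoImplicit false
set_option linter.unusedSectionVars false

namespace Cfsg.Agent.H972.CS.MainTwo

open CoxeterSystem Cfsg Cfsg.Lie Cfsg.Lie.ChevalleyDatum
open Cfsg.Agent.ChevalleyStructure Cfsg.Agent.ChevalleyStructure.Elts Cfsg.Agent.ChevalleyStructure.CoxeterGeom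
  Cfsg.Agent.ChevalleyStructure.CoxeterGeomTypes Cfsg.Agent.ChevalleyStructure.NPerm
open Cfsg.Agent.Tits.Roots Cfsg.Agent.Tits.Core Cfsg.Agent.Nodes Cfsg.Agent.Nodes.Reps Cfsg.Agent.Nodes.BNOf
  Cfsg.Agent.Nodes.RGDChev
open Cfsg.Agent.KFacts.RgdField Cfsg.Agent.KFacts.RgdChevCoord
open Cfsg.Agent.BpExc Cfsg.Agent.BpExc.TorCent Cfsg.Agent.BpExc.TorChev Cfsg.Agent.BpExc.Tow
  Cfsg.Agent.BpExc.TowChev Cfsg.Agent.BpExc.Fr Cfsg.Agent.BpExc.Pair Cfsg.Agent.BpExc.LangFr Cfsg.Agent.GpExc.Field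
  Cfsg.Agent.BpExc.NInst Cfsg.Agent.BpExc.NChev Cfsg.Agent.H129.TorusChar Cfsg.Agent.H129.TorusMain
  Cfsg.Agent.H129.TorusUntw Cfsg.Agent.H972.CS Cfsg.Agent.H972.CS.Count Cfsg.Agent.H972.CS.Torus Cfsg.Agent.H972.CS.Main

universe u v

section

variable {D : ChevalleyDatum} {l : ℕ} {M : CoxeterMatrix (Fin l)} (hp : IsType D l M) {k : Type u} [Field k]
  {W : Type*} [Group W] (cs : CoxeterSystem M W)

/-- **The formula, with the frame.** -/
theorem bound_frame [IsAlgClosed k] (hk : LocFin k) {r e : ℕ} [Fact r.Prime] [CharP k r] (he : 0 < e)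
    {σ : MulAut ↥(D.group k)} (hσ : IsFrob r e σ) {g : (Fin l → ℤ) ≃+ (Fin l → ℤ)}
    (F : Fr cs hp.isCartan (TT D k) (XX D l k) σ g) {d' : ℕ} {B' : Fin l → Fin l → ℤ} (hB : InvC D l d' B')
    (hd' : d' ≠ 0) {s : ℕ} (hs : s.Prime) (hsr : s ≠ r) {Rf : Set ((Fin l → ℤ) →+ ZMod s)}
    (hRf : Meets hp cs Rf) {x z t : ↥(D.group k)} (hx : σ x = x) (hxs : x ^ s = 1) (hx1 : x ≠ 1) (ht : t ∈ TT D k)
    (e0 : z⁻¹ * x * z = t) [Finite ↥(fixC σ x)] (hN : NSys M (TT D k) (nc hp k)) :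
    ∃ f ∈ Rf, f ≠ 0 ∧ ∃ w : W, Pair hp cs g (r ^ e) s f w ∧
      (∃ (t1 z2 n : ↥(D.group k)) (v : W), t1 ∈ TT D k ∧ x = z2 * t1 * z2⁻¹ ∧ n = z2⁻¹ * σ z2 ∧ Rp cs hN w n ∧
        n * σ t1 * n⁻¹ = t1 ∧ (∀ y, cX hp t1 y = 1 ↔ f y = 0) ∧
        ∀ y, cX hp t1 y = cX hp t (rep cs hp.isCartan v y)) ∧
      ∀ Cw : Finset W, Cov hp cs g f w Cw → Nat.card ↥(fixC σ x) ≤ val hp cs g (r ^ e) f w Cw := by
  classical
  have := finite_W hp cs
  have hsk : (s : k) ≠ 0 := by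
    intro h0
    have h1 := (CharP.cast_eq_zero_iff k r s).1 h0
    exact hsr ((Nat.prime_dvd_prime_iff_eq (Fact.out : r.Prime) hs).1 h1).symm
  have hts : t ^ s = 1 := by
    have e1 : t = z⁻¹ * x * z⁻¹⁻¹ := by rw [inv_inv, e0]
    rw [e1, conj_pow, hxs, mul_one, inv_inv, inv_mul_cancel]
  -- the conjugate of `t`
  obtain ⟨f0, hf0⟩ := exists_add hp hs hsk ht hts
  obtain ⟨v0, hv0⟩ := hRf f0
  have H := tow (k := k) hp cs hk r
  obtain ⟨m, -, hm0⟩ := H.exists_rp v0⁻¹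
  have hm : Rp cs hN v0⁻¹ m := by
    have key : ∀ (T : Subgroup ↥(D.group k)) (h1 : NSys M T (nc hp k)) (h2 : T = TT D k),
        Rp cs h1 v0⁻¹ m → Rp cs hN v0⁻¹ m := by
      intro T h1 h2 h3
      subst h2
      exact h3
    exact key _ _ (TL_eq hp hk) hm0
  set t1 : ↥(D.group k) := m * t * m⁻¹ with ht1
  have ht1T : t1 ∈ TT D k := (Subgroup.mem_normalizer_iff.1 hm.mem_normalizer t).1 ht
  set f : (Fin l → ℤ) →+ ZMod s := f0.comp (rep cs hp.isCartan v0).toAddMonoidHom with hf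
  have hcX : ∀ y, cX hp t1 y = 1 ↔ f y = 0 := by
    intro y
    have h1 := cX_rp hp cs hk r hm ht (rep cs hp.isCartan v0 y)
    rw [rep_inv_apply] at h1
    rw [ht1, h1]
    exact hf0 _
  have e1 : x = z * m⁻¹ * t1 * (z * m⁻¹)⁻¹ := by
    rw [ht1, ← e0]; group
  obtain ⟨z2, n, w, e2, e3, hn, hnt, hpos⟩ := frame_of hp cs hk he hσ F hB hd' hN hx ht1T e1
  refine ⟨f, hv0, ?_, w, ⟨?_, ?_⟩, ⟨t1, z2, n, v0, ht1T, e2, e3, hn, hnt, hcX, fun y => ?_⟩, ?_⟩
  · intro hf00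
    apply hx1
    have h2 : t1 = 1 := by
      refine cX_inj hp ht1T (one_mem _) fun i => ?_
      rw [cX_one, hcX, hf00]
      rfl
    rw [e1, h2]; group
  · intro y
    have h1 := (tau_iff hp cs hk hσ F hn ht1T).1 hnt y
    have hM := isMC_cX hp ht1T
    have h2 : cX hp t1 (theta hp cs w g y - (r ^ e) • y) = 1 := by
      rw [hM.sub, h1, hM.nsmul, div_self (pow_ne_zero _ (hM.ne_zero y))]
    rw [hcX, map_sub, sub_eq_zero, map_nsmul] at h2
    exact h2
  · intro a ha h0 hfa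
    refine hpos a ⟨ha, ?_⟩ h0
    rw [← cX_root hp cs ht1T ha]
    exact (hcX a).2 hfa
  · have h1 := cX_rp hp cs hk r hm ht (rep cs hp.isCartan v0 y)
    rw [rep_inv_apply] at h1
    exact h1
  · intro Cw hCw
    -- the twisted frame automorphism
    have Fτ : Fr cs hp.isCartan (TT D k) (XX D l k) (MulAut.conj n * σ) (g.trans (repAut cs hp.isCartan w)) :=
      (Cfsg.Agent.H720.TorusReal.fr_conj hp cs hk r hn).mul F
    have hτσ : IsFrob r e (MulAut.conj n * σ) := hσ.conj_mul _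
    have hτt : (MulAut.conj n * σ) t1 = t1 := hnt
    have E : ↥(fixC (MulAut.conj n * σ) t1) ≃* ↥(fixC σ x) :=
      fixEquiv (z := z2) (by rw [e2]; group) e3.symm
    have hfin : Finite ↥(fixC (MulAut.conj n * σ) t1) := Finite.of_equiv _ E.symm.toEquiv
    have hSx : ∀ a, a ∈ Sx cs hp.isCartan (ch hp) t1 ↔ IsRoot cs hp.isCartan a ∧ f a = 0 := by
      intro a
      constructor
      · rintro ⟨ha, h1⟩
        exact ⟨ha, (hcX a).1 (by rw [cX_root hp cs ht1T ha]; exact h1)⟩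
      · rintro ⟨ha, h1⟩
        exact ⟨ha, by rw [← cX_root hp cs ht1T ha]; exact (hcX a).2 h1⟩
    have hmain := card_fixC_le hp cs hk ht1T he hτσ Fτ hτt hpos Cw (fun v hv1 hv2 => by
      refine hCw v ?_ ?_
      · have h3 : ∀ i, f (rep cs hp.isCartan v (sr i)) = f (sr i) := by
          intro i
          have hri := isRoot_sr cs hp.isCartan i
          have h4 := hv1 _ hri
          have hM := isMC_cX hp ht1T
          rw [← cX_root hp cs ht1T (hri.act v), ← cX_root hp cs ht1T hri] at h4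
          have h5 : cX hp t1 (rep cs hp.isCartan v (sr i) - sr i) = 1 := by
            rw [hM.sub, h4, div_self (hM.ne_zero _)]
          rw [hcX, map_sub, sub_eq_zero] at h5
          exact h5
        intro y
        rw [eq_sum_sr y, map_sum, map_sum, map_sum]
        refine Finset.sum_congr rfl fun i _ => ?_
        rw [map_zsmul, map_zsmul, map_zsmul, h3]
      · have h3 : ∀ i, rep cs hp.isCartan v (theta hp cs w g (sr i)) = theta hp cs w g (rep cs hp.isCartan v (sr i)) :=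
          fun i => hv2 _ (isRoot_sr cs hp.isCartan i)
        intro y
        rw [eq_sum_sr y, map_sum, map_sum, map_sum, map_sum]
        refine Finset.sum_congr rfl fun i _ => ?_
        rw [map_zsmul, map_zsmul, map_zsmul, map_zsmul, h3])
    rw [← Nat.card_congr E.toEquiv]
    refine hmain.trans ?_
    have hT := (card_TF_le hp cs he hτσ Fτ).2
    have e5 : (g.trans (repAut cs hp.isCartan w)).toAddMonoidHom = theta hp cs w g := rfl
    rw [e5] at hT
    have e6 : SP (Sx cs hp.isCartan (ch hp) t1) = psi cs hp.isCartan f := by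
      ext a
      constructor
      · rintro ⟨h1, h2⟩
        exact ⟨((hSx a).1 h1).1, h2, ((hSx a).1 h1).2⟩
      · rintro ⟨h1, h2, h3⟩
        exact ⟨(hSx a).2 ⟨h1, h3⟩, h2⟩
    have e7 : ∀ v : W, NormalForm.NW cs hp.isCartan v ∩ Sx cs hp.isCartan (ch hp) t1 = psiN cs hp.isCartan f v := by
      intro v
      ext a
      constructor
      · rintro ⟨⟨h1, h2, h3⟩, h4⟩
        exact ⟨h1, h2, ((hSx a).1 h4).2, h3⟩
      · rintro ⟨h1, h2, h3, h4⟩
        exact ⟨⟨h1, h2, h4⟩, (hSx a).2 ⟨h1, h3⟩⟩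
    rw [e6]
    simp only [e7]
    exact Nat.mul_le_mul_right _ hT

end

end Cfsg.Agent.H972.CS.MainTwo
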