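import Cfsg.Agent.H972.CS.E6Link

/-!
# The centralisers of order 3 in `²E₆(2)`: values of the formula, second part (helper972)

`ok` : for all isometries `θ ≡ -1` with `f ∘ θ = 2 f` keeping `Ψ+` positive the value is at most `82771476480`.
-/

set_option autoImplicit false
set_option maxRecDepth 1000000

namespace Cfsg.Agent.H972.CS.TwE6VB

open Cfsg.Agent.H972.CS.Eval Cfsg.Agent.H972.CS.E6Link

theorem v000010 : data6.ok 6 2 3 (-1) 82771476480 [0, 0, 0, 0, 1, 0] = true := by decide +kernel

theorem v001000 : data6.ok 6 2 3 (-1) 82771476480 [0, 0, 1, 0, 0, 0] = true := by decide +kernel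

theorem v001001 : data6.ok 6 2 3 (-1) 82771476480 [0, 0, 1, 0, 0, 1] = true := by decide +kernel

theorem v010000 : data6.ok 6 2 3 (-1) 82771476480 [0, 1, 0, 0, 0, 0] = true := by decide +kernel

theorem v010001 : data6.ok 6 2 3 (-1) 82771476480 [0, 1, 0, 0, 0, 1] = true := by decide +kernel

theorem v100010 : data6.ok 6 2 3 (-1) 82771476480 [1, 0, 0, 0, 1, 0] = true := by decide +kernel

theorem v110000 : data6.ok 6 2 3 (-1) 82771476480 [1, 1, 0, 0, 0, 0] = true := by decide +kernel

end Cfsg.Agent.H972.CS.TwE6VB
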