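import Cfsg.Agent.H972.CS.MainTwo
import Cfsg.Agent.H972.CS.TwE6VA
import Cfsg.Agent.H972.CS.TwE6VB
import Cfsg.Agent.H554.CS.D5Out
import Cfsg.Agent.H38.CS.Gen
import Cfsg.Agent.H795.Tw
import Cfsg.Agent.H696.GmnTwE6
import Cfsg.Agent.S1066

/-!
# The elements of order 3 of `²E₆(2)` (helper972)

* `cent_three` : `|C(x)| ≤ 82771476480` for `x` of order 3 in the simple group `²E₆(2)`;
* `cG_three` : the class of `x` has at least `2 ^ 39` elements.
-/

set_option autoImplicit false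
set_option linter.unusedSectionVars false

namespace Cfsg.Agent.H972.CS.TwE6Three

open CoxeterSystem Cfsg Cfsg.Lie Cfsg.Lie.ChevalleyDatum
open Cfsg.Agent.ChevalleyStructure Cfsg.Agent.ChevalleyStructure.Elts Cfsg.Agent.ChevalleyStructure.CoxeterGeom
  Cfsg.Agent.ChevalleyStructure.CoxeterGeomTypes Cfsg.Agent.ChevalleyStructure.NPerm
open Cfsg.Agent.Tits.Roots Cfsg.Agent.Tits.Core Cfsg.Agent.Nodes Cfsg.Agent.Nodes.Reps Cfsg.Agent.Nodes.BNOf
  Cfsg.Agent.Nodes.RGDChev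
open Cfsg.Agent.KFacts.RgdField Cfsg.Agent.KFacts.RgdChevCoord
open Cfsg.Agent.BpExc Cfsg.Agent.BpExc.Pair Cfsg.Agent.BpExc.NChev Cfsg.Agent.H129.TorusChar
  Cfsg.Agent.H129.TorusMain Cfsg.Agent.H129.TorusUntw
  Cfsg.Agent.H972.CS.Main Cfsg.Agent.H972.CS.MainTwo Cfsg.Agent.H972.CS.Eval Cfsg.Agent.H972.CS.LinkOf
  Cfsg.Agent.H972.CS.E6Link Cfsg.Agent.H795.Core Cfsg.Agent.H720.TwFr

universe u v

section

variable {D : ChevalleyDatum} {l : ℕ} {M : CoxeterMatrix (Fin l)} {hp : IsType D l M}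

/-- the number of the roots killed by `f` -/
theorem psi_ncard {W : Type*} [Group W] {cs : CoxeterSystem M W} {Da : Data} {B : Fin l → Fin l → ℤ}
    (L : Link Da hp cs B) {s : ℕ} {f : (Fin l → ℤ) →+ ZMod s} {fl : List ℤ} (hfl : fl.length = l)
    (hf : ∀ i : Fin l, f (sr i) = ((fl.getD i 0 : ℤ) : ZMod s)) (hnd : (Da.psiL s fl).Nodup) :
    (Main.psi cs hp.isCartan f).ncard = (Da.psiL s fl).length := by
  classical
  apply le_antisymm
  · exact ncard_le_length _ (vl l) fun a ha => by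
      obtain ⟨X, hX, e, -⟩ := mem_psiL L hfl hf ha
      exact ⟨X, hX, e⟩
  · have h1 : ∀ X ∈ Da.psiL s fl, X.length = l ∧ vl l X ∈ Main.psi cs hp.isCartan f := by
      intro X hX
      unfold Data.psiL at hX
      rw [List.mem_map] at hX
      obtain ⟨r, hr, rfl⟩ := hX
      rw [List.mem_filter, Bool.and_eq_true, beq_iff_eq, decide_eq_true_iff, List.mem_range] at hr
      obtain ⟨hr1, hr2, hr3⟩ := hr
      have h6 := L.isr r hr1
      refine ⟨L.len r hr1, h6, ?_, ?_⟩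
      · rcases h6.pos_or_neg with h8 | h8
        · exact h8
        · exfalso
          have h9 := ev_nonpos L h8
          rw [L.cd r hr1, dot_eq l _ _ (L.len r hr1) L.evl] at hr3
          exact absurd hr3 (not_lt.2 h9)
      · rw [f_vl hfl hf _ (L.len r hr1)]
        exact eq_of_mod hr2
    have h2 : Set.InjOn (vl l) (((Da.psiL s fl).toFinset : Finset (List ℤ)) : Set (List ℤ)) := by
      intro X hX Y hY e
      rw [Finset.mem_coe, List.mem_toFinset] at hX hY
      have hXl := (h1 X hX).1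
      have hYl := (h1 Y hY).1
      refine List.ext_getElem (by rw [hXl, hYl]) fun i h3 h4 => ?_
      have h5 := congrFun e ⟨i, by rw [← hXl]; exact h3⟩
      unfold vl at h5
      rw [List.getD_eq_getElem _ _ h3, List.getD_eq_getElem _ _ h4] at h5
      exact h5
    rw [← List.toFinset_card_of_nodup hnd, ← Set.ncard_coe_finset, ← h2.ncard_image]
    refine Set.ncard_le_ncard ?_ ?_
    · rintro _ ⟨X, hX, rfl⟩
      rw [Finset.mem_coe, List.mem_toFinset] at hX
      exact (h1 X hX).2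
    · have := finite_W hp cs
      exact (RGD.finite_roots (cs := cs) (h := hp.isCartan)).subset fun a ha => ha.1

/-- `C_G(x)` is at most `C_Y(x)^σ`. -/
theorem card_centralizer_le {k : Type u} [Field k] {r : ℕ} [Fact r.Prime] [CharP k r]
    {G : Type v} [Group G] [Finite G] {p e : ℕ} {φ : G →* ↥(D.group k)} {σ : MulAut ↥(D.group k)}
    {g : (Fin l → ℤ) ≃+ (Fin l → ℤ)} (h : Setup hp p r e φ σ g) (x : G) [Finite ↥(fixC σ (φ x))] :
    Nat.card ↥(Subgroup.centralizer {x}) ≤ Nat.card ↥(fixC σ (φ x)) := by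
  let F : ↥(Subgroup.centralizer {x}) → ↥(fixC σ (φ x)) := fun y => ⟨φ y, mem_fixC.2 ⟨h.fix y, by
    rw [← map_mul, ← map_mul, Subgroup.mem_centralizer_singleton_iff.1 y.2]⟩⟩
  refine Nat.card_le_card_of_injective F fun a b hab => ?_
  apply Subtype.ext
  apply h.inj
  exact congrArg (fun z : ↥(fixC σ (φ x)) => (z : ↥(D.group k))) hab

end

/-! ### the values -/

set_option maxRecDepth 1000000 in
theorem kac_eq : kac6 3 = [[0, 0, 0, 0, 0, 0], [0, 0, 0, 0, 0, 1], [0, 0, 0, 0, 0, 2], [0, 0, 0, 0, 0, 3],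
    [0, 0, 0, 0, 1, 0], [0, 0, 0, 0, 1, 1], [0, 0, 0, 1, 0, 0], [0, 0, 1, 0, 0, 0], [0, 0, 1, 0, 0, 1],
    [0, 1, 0, 0, 0, 0], [0, 1, 0, 0, 0, 1], [1, 0, 0, 0, 0, 0], [1, 0, 0, 0, 0, 1], [1, 0, 0, 0, 0, 2],
    [1, 0, 0, 0, 1, 0], [1, 0, 1, 0, 0, 0], [1, 1, 0, 0, 0, 0], [2, 0, 0, 0, 0, 0], [2, 0, 0, 0, 0, 1],
    [3, 0, 0, 0, 0, 0]] := by decide +kernel

/-- the cases -/
def Cs (fl : List ℤ) : Prop :=
  (∀ i : Fin 6, ((fl.getD i 0 : ℤ) : ZMod 3) = 0) ∨
  ((data6.psiL 3 fl).length = 20 ∧ (data6.psiL 3 fl).Nodup) ∨ data6.ok 6 2 3 (-1) 82771476480 fl = true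

set_option maxRecDepth 1000000 in
theorem cases3 : ∀ fl ∈ kac6 3, Cs fl := by
  rw [kac_eq]
  intro fl hfl
  simp only [List.mem_cons, List.not_mem_nil, or_false] at hfl
  rcases hfl with rfl | rfl | rfl | rfl | rfl | rfl | rfl | rfl | rfl | rfl | rfl | rfl | rfl | rfl | rfl | rfl |
    rfl | rfl | rfl | rfl
  · exact Or.inl (by decide)
  · exact Or.inr (Or.inl (by decide +kernel))
  · exact Or.inr (Or.inl (by decide +kernel))
  · exact Or.inl (by decide)
  · exact Or.inr (Or.inr TwE6VB.v000010)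
  · exact Or.inr (Or.inr TwE6VA.v000011)
  · exact Or.inr (Or.inr TwE6VA.v000100)
  · exact Or.inr (Or.inr TwE6VB.v001000)
  · exact Or.inr (Or.inr TwE6VB.v001001)
  · exact Or.inr (Or.inr TwE6VB.v010000)
  · exact Or.inr (Or.inr TwE6VB.v010001)
  · exact Or.inr (Or.inl (by decide +kernel))
  · exact Or.inr (Or.inr TwE6VA.v100001)
  · exact Or.inr (Or.inl (by decide +kernel))
  · exact Or.inr (Or.inr TwE6VB.v100010)
  · exact Or.inr (Or.inr TwE6VA.v101000)
  · exact Or.inr (Or.inr TwE6VB.v110000)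
  · exact Or.inr (Or.inl (by decide +kernel))
  · exact Or.inr (Or.inl (by decide +kernel))
  · exact Or.inl (by decide)

/-! ### the theorem -/

/-- **The centralisers of the elements of order 3 of `²E₆(2)`.** -/
theorem cent_three {K : Type u} [Field K] [Fintype K] (hK : Fintype.card K = 4) {x : ↥(twistedE6 K 2)}
    (hx : orderOf x = 3) : Nat.card ↥(Subgroup.centralizer {x}) ≤ 82771476480 := by
  classical
  obtain ⟨r, n, hr, hrF, hrk, hn0, hn, hk⟩ := Cfsg.Agent.H795.Tw.exists_closure_q (K := K) (q := 2) two_ne_zero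
    (Nat.prime_two.isPrimePow) (by rw [hK]; norm_num)
  have hr2 : r = 2 := by
    have h1 : r ∣ 2 := by
      rw [hn]
      exact dvd_pow_self r hn0.ne'
    exact (Nat.prime_dvd_prime_iff_eq hr.out Nat.prime_two).1 h1
  subst hr2
  have : Fact (Nat.Prime 5) := ⟨by norm_num⟩
  have hset := Cfsg.Agent.H795.Tw.setup_six (q := 2) (algebraMap K (AlgebraicClosure K)) 2 hk hn0 hn
    (by rw [hK]; norm_num) (p := 5) (by norm_num)
  have hx3 : x ^ 3 = 1 := by rw [← hx, pow_orderOf_eq_one]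
  have hx1 : x ≠ 1 := by
    rintro rfl
    rw [orderOf_one] at hx
    omega
  set φ := em6 2 (algebraMap K (AlgebraicClosure K)) with hφ
  have hφ3 : (φ x) ^ 3 = 1 := by rw [← map_pow, hx3, map_one]
  have hφ1 : φ x ≠ 1 := fun h0 => hx1 (hset.inj (by rw [h0, map_one]))
  let _ := ZMod.algebra K 2
  have h1 : Algebra.IsAlgebraic (ZMod 2) K := Algebra.IsAlgebraic.of_finite _ _
  have h2 : Algebra.IsAlgebraic (ZMod 2) (AlgebraicClosure K) := Algebra.IsAlgebraic.trans (ZMod 2) K _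
  obtain ⟨z, hz⟩ := TorAll.exists_toral' hp6 2 (y := φ x) Nat.prime_three (by norm_num) hφ3
  have hfin : Finite ↥(fixC (sig6 (AlgebraicClosure K) 2 n) (φ x)) := by
    have := hset.fin
    exact Finite.of_injective (fun y : ↥(fixC (sig6 (AlgebraicClosure K) 2 n) (φ x)) =>
      (⟨y.1, (mem_fixC.1 y.2).1⟩ : {y : ↥(chevE6.group (AlgebraicClosure K)) // sig6 (AlgebraicClosure K) 2 n y = y}))
      (fun a b hab => Subtype.ext (congrArg (fun z : {y : ↥(chevE6.group (AlgebraicClosure K)) //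
        sig6 (AlgebraicClosure K) 2 n y = y} => z.1) hab))
  have hN : NSys CoxeterMatrix.E₆ (TT chevE6 (AlgebraicClosure K)) (nc hp6 (AlgebraicClosure K)) :=
    nsys_of_locFin hp6 CoxeterMatrix.E₆.toCoxeterSystem hk 2
  obtain ⟨f, ⟨fl, hfl, hf⟩, hf0, w, hP, ⟨t1, z2, n', v, ht1, e2, -, -, -, hcX, -⟩, hC⟩ :=
    bound_frame hp6 CoxeterMatrix.E₆.toCoxeterSystem hk hset.e_pos hset.frob hset.fr invC_E6 three_ne_zero
      Nat.prime_three (by norm_num) (meets6 hp6 (s := 3) (by norm_num)) (hset.fix x) hφ3 hφ1 hz rfl hN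
  have hfinW := finite_W hp6 CoxeterMatrix.E₆.toCoxeterSystem
  have hL := link6 hp6 CoxeterMatrix.E₆.toCoxeterSystem
  have hfll := kac_length hfl
  rcases cases3 fl hfl with h | ⟨h, h'⟩ | h
  · exfalso
    apply hf0
    refine AddMonoidHom.ext fun y => ?_
    rw [eq_sum_sr y, map_sum]
    refine Finset.sum_eq_zero fun i _ => ?_
    rw [map_zsmul, hf, h, smul_zero]
  · exfalso
    have h3 : (psi CoxeterMatrix.E₆.toCoxeterSystem hp6.isCartan f).ncard = 20 :=
      (psi_ncard hL hfll hf h').trans h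
    refine Cfsg.Agent.H554.CS.ncard_ne_tw hk hK (algebraMap K (AlgebraicClosure K)) hx3 (z := z2) (t := t1) ?_ ht1
      hp6 hcX h3
    rw [← hφ, e2]; group
  · obtain ⟨v', hv'⟩ := Cfsg.Agent.H696.GmnTwE6.neg_graph hp6 CoxeterMatrix.E₆.toCoxeterSystem
    have hok : data6.ok 6 (2 ^ n) 3 (-1) 82771476480 fl = true := by rw [← hn]; exact h
    obtain ⟨Cw, hCw, hle⟩ := ok_sound hL (gok_neg hp6 CoxeterMatrix.E₆.toCoxeterSystem hv')
      (pow_pos (by norm_num : 0 < 2) n) hfll hf hP hok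
    exact (card_centralizer_le hset x).trans ((hC Cw hCw).trans hle)

/-- The order of `²E₆(2)`. -/
theorem card_te {K : Type u} [Field K] [Fintype K] (hK : Fintype.card K = 4) :
    Nat.card ↥(twistedE6 K 2) = 76532479683774853939200 := by
  have h := Cfsg.Agent.S1066.result (K := K) (q := 2) Nat.prime_two.isPrimePow (by rw [hK]; norm_num)
  norm_num at h
  omega

/-- **The classes of the elements of order 3 of `²E₆(2)`.** -/
theorem cG_three {K : Type u} [Field K] [Fintype K] (hK : Fintype.card K = 4) (x : ↥(twistedE6 K 2))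
    (hx : orderOf x = 3) : 924623831040 ≤ Cfsg.Agent.H742.EX.cG x := by
  have : Finite ↥(twistedE6 K 2) := Nat.finite_of_card_ne_zero (by rw [card_te hK]; norm_num)
  exact Cfsg.Agent.H38.CS.cG_ge (cent_three hK hx) (by rw [card_te hK])

theorem cG_three' {K : Type u} [Field K] [Fintype K] (hK : Fintype.card K = 4) (x : ↥(twistedE6 K 2))
    (hx : orderOf x = 3) : 2 ^ 39 ≤ Cfsg.Agent.H742.EX.cG x :=
  le_trans (by norm_num) (cG_three hK x hx)

end Cfsg.Agent.H972.CS.TwE6Three
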