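import Cfsg.Agent.H461.E2.Cent
import Cfsg.Agent.H129.TorusMain

/-!
# Centralisers of semisimple elements: the count (helper972)

`Y = D.group k`, `k` algebraically closed, locally finite, `τ` a Frobenius frame automorphism (lattice map `g`) fixing
`t ∈ T` and preserving the positive roots of `t`:

* `card_fixC_le` : `|C_Y(t)^τ| ≤ |T^τ| q^|Ψ+| ∑_{w ∈ C_W(t), w g = g w} q^|{a ∈ Ψ+ : w a ≤ 0}|`;
* `card_torus_le` : `|T^τ| ≤ |det (g - q)|`.
-/

set_option autoImplicit false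
set_option linter.unusedSectionVars false

namespace Cfsg.Agent.H972.CS.Count

open CoxeterSystem Cfsg Cfsg.Lie Cfsg.Lie.ChevalleyDatum
open Cfsg.Agent.ChevalleyStructure Cfsg.Agent.ChevalleyStructure.Elts Cfsg.Agent.ChevalleyStructure.CoxeterGeom
  Cfsg.Agent.ChevalleyStructure.CoxeterGeomTypes Cfsg.Agent.ChevalleyStructure.NPerm
open Cfsg.Agent.Tits.Roots Cfsg.Agent.Tits.Core Cfsg.Agent.Nodes Cfsg.Agent.Nodes.Reps Cfsg.Agent.Nodes.BNOf
  Cfsg.Agent.Nodes.RGDChev Cfsg.Agent.Nodes.Bruhat Cfsg.Agent.Nodes.NormalForm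
open Cfsg.Agent.KFacts.RgdField Cfsg.Agent.KFacts.RgdChevCoord
open Cfsg.Agent.BpExc Cfsg.Agent.BpExc.TorCent Cfsg.Agent.BpExc.TorChev Cfsg.Agent.BpExc.Tow
  Cfsg.Agent.BpExc.TowChev Cfsg.Agent.BpExc.Fr Cfsg.Agent.BpExc.Pair Cfsg.Agent.BpExc.LangFr Cfsg.Agent.GpExc.Field
  Cfsg.Agent.BpExc.NInst Cfsg.Agent.BpExc.NChev Cfsg.Agent.H461.E2.Sup Cfsg.Agent.H461.E2.Fix
  Cfsg.Agent.H461.E2.Cent Cfsg.Agent.H129.TorusChar Cfsg.Agent.H129.TorusMain
open scoped commutatorElement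

universe u v

section Lim

variable {I W Y : Type*} [Fintype I] [DecidableEq I] [Group W] [Group Y] {M : CoxeterMatrix I}
  {cs : CoxeterSystem M W} {A : I → I → ℤ} {h : IsCartan M A} {p : ℕ} {T : Subgroup Y} {n : I → Y}
  {X : (I → ℤ) → Subgroup Y} {R : RGD cs h p T n X} {t : Y} {S : Set (I → ℤ)} {τ : MulAut Y}
  {g : (I → ℤ) ≃+ (I → ℤ)} (D : Dat R t S τ g)

include D

/-- **The Bruhat form of `C_Y(t)^τ`, with the root sets.** -/
theorem exists_form' [Finite W] {c : Y} (hc : c ∈ fixC τ t) :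
    ∃ w, (∀ a, IsRoot cs h a → rep cs h w (g a) = g (rep cs h w a)) ∧
      ∃ u ∈ RGD.Sup X (SP S), u ∈ fixC τ t ∧ ∃ k ∈ fixC τ t, Rp cs R.nsys w k ∧
      ∃ v ∈ RGD.Sup X (NW cs h w ∩ S), v ∈ fixC τ t ∧ c = u * k * v := by
  obtain ⟨w, hw⟩ := (mem_GG R).1 (D.le hc)
  obtain ⟨u, hu, k, hk, v, hv, rfl⟩ := Cfsg.Agent.Nodes.NormalForm.exists_normal_form R hw
  obtain ⟨hτ, hct⟩ := mem_fixC.1 hc
  obtain ⟨h1, h2, h3⟩ := centralizer_form R (S := {t}) (Set.singleton_subset_iff.2 D.mem) hu hk hv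
    (Subgroup.mem_centralizer_singleton_iff.2 hct)
  have hu' : u ∈ RGD.Sup X (SP S) := by
    have h4 : u ∈ RGD.Sup (fun x => X x ⊓ Subgroup.centralizer {t}) (RGD.Pos cs h) := by
      rw [← centralizer_U R (Set.singleton_subset_iff.2 D.mem)]
      exact ⟨hu, h1⟩
    exact RGD.Sup_mono (S := RGD.Pos cs h ∩ S) (S' := SP S) (fun a ha => ⟨ha.2, ha.1.2⟩)
      (D.sup_cent _ (fun a ha => ha.1) h4)
  have hv' : v ∈ RGD.Sup X (NW cs h w ∩ S) := by
    refine D.sup_cent _ (fun a ha => ha.1) ?_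
    rw [NW_eq] at hv ⊢
    exact centralizer_PW R _ (Set.singleton_subset_iff.2 D.mem) hv h3
  obtain ⟨w', hk'⟩ := D.rp w k hk
  have hτv : τ v ∈ RGD.Sup X (NW cs h w') := by
    have h4 : RGD.Sup X (NW cs h w ∩ S) ≤ (RGD.Sup X (NW cs h w')).comap τ.toMonoidHom := by
      refine RGD.Sup_le fun a ha y hy => ?_
      refine RGD.le_Sup (S := NW cs h w') ⟨(D.fr.root a).2 ha.1.1, D.pos a ha.2 ha.1.2.1, ?_⟩
        ((D.fr.map a ha.1.1 y).2 hy)
      rw [D.rep_g hk hk' ha.1.1]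
      exact D.g_neg (D.act hk h2 ha.2) ha.1.2.2
    exact h4 hv'
  have e : τ u * τ k * τ v = u * k * v := by rw [← map_mul, ← map_mul]; exact hτ
  have hτu := D.U_le (D.map_U hu')
  have hB : ∀ {w : W} {v : Y}, v ∈ RGD.Sup X (NW cs h w) → v ∈ RGD.B cs h T X := fun hv =>
    RGD.U_le_B (RGD.Sup_mono (S := NW cs h _) (S' := RGD.Pos cs h) (fun x hx => ⟨hx.1, hx.2.1⟩) hv)
  have c1 : Cell R.nsys cs h X w (u * k * v) := ⟨u, RGD.U_le_B hu, k, hk, v, hB hv, rfl⟩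
  have c2 : Cell R.nsys cs h X w' (u * k * v) := ⟨τ u, RGD.U_le_B hτu, τ k, hk', τ v, hB hτv, e.symm⟩
  have hw : w = w' := Cell.unique R c1 c2
  subst hw
  obtain ⟨e1, e2, e3⟩ := Cfsg.Agent.Nodes.NormalForm.normal_form_unique R hτu hu hk' hk hτv hv e
  have hfu : u ∈ fixC τ t := mem_fixC.2 ⟨e1, Subgroup.mem_centralizer_singleton_iff.1 h1⟩
  have hfk : k ∈ fixC τ t := mem_fixC.2 ⟨e2, Subgroup.mem_centralizer_singleton_iff.1 h2⟩
  have hfv : v ∈ fixC τ t := mem_fixC.2 ⟨e3, Subgroup.mem_centralizer_singleton_iff.1 h3⟩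
  exact ⟨w, fun a ha => D.rep_g hk hk' ha, u, hu', hfu, k, hfk, hk, v, hv', hfv, rfl⟩

end Lim

section

variable {D : ChevalleyDatum} {l : ℕ} {M : CoxeterMatrix (Fin l)} (hp : IsType D l M) {k : Type u} [Field k]
  {W : Type*} [Group W] (cs : CoxeterSystem M W)

/-- a level carrying all data -/
theorem exists_dat [IsAlgClosed k] (hk : LocFin k) {r e : ℕ} [Fact r.Prime] [CharP k r]
    {t : ↥(D.group k)} (ht : t ∈ TT D k) (he : 0 < e) {τ : MulAut ↥(D.group k)}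
    (hτ : IsFrob r e τ) {g : (Fin l → ℤ) ≃+ (Fin l → ℤ)} (F : Fr cs hp.isCartan (TT D k) (XX D l k) τ g)
    (hτt : τ t = t) (hpos : ∀ a ∈ Sx cs hp.isCartan (ch hp) t, 0 ≤ a → 0 ≤ g a) [Finite ↥(fixC τ t)] :
    ∃ E : Lev k, Dat ((tow (k := k) hp cs hk r).rgd E) t (Sx cs hp.isCartan (ch hp) t) τ g := by
  have := finite_W hp cs
  have H := tow (k := k) hp cs hk r
  have C := coordsL (k := k) hp cs hk r
  have hA := chAddL (k := k) hp cs hk r
  have hG := GG_eq_top (k := k) hp cs hk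
  have hTL := TL_eq (k := k) hp hk
  have hXL := XL_eq (k := k) hp hk
  have F' : Fr cs hp.isCartan (TL (Tj hp (k := k))) (XL (Xj hp (k := k))) τ g := by rw [hTL, hXL]; exact F
  have hsep : ∀ a, IsRoot cs hp.isCartan a → ∃ s ∈ TL (Tj hp (k := k)), ∀ u ∈ XL (Xj hp (k := k)) a,
      u * s = s * u → u = 1 := by
    rw [hTL, hXL]
    exact fun a ha => sep hp cs hk r ha
  -- the level
  obtain ⟨E1, hE1⟩ := HX.fr_level hp cs hk hτ F
  obtain ⟨E2, hE2⟩ := HX.exists_fixed_level hp cs hk he hτ F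
  obtain ⟨E3, hE3⟩ := exists_TT hp hk ht
  obtain ⟨E4, hE4⟩ := exists_level_finite hp hk (S := (fixC τ t : Set ↥(D.group k))) (Set.toFinite _)
  obtain ⟨E5, a1, a2⟩ := dir_lev hk E1 E2
  obtain ⟨E6, a3, a4⟩ := dir_lev hk E3 E4
  obtain ⟨E, b1, b2⟩ := dir_lev hk E5 E6
  have FE := hE1 E (a1.trans b1)
  have hX : ∀ a, Xj hp E a ≤ XX D l k a := fun a => by rw [← hXL]; exact le_XL E a
  have hT : Tj hp E ≤ TT D k := by rw [← hTL]; exact le_TL E
  obtain ⟨t', ht', htt⟩ := hE3 E (a3.trans b2)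
  have htE : t ∈ Tj hp E := ⟨t', ht', htt⟩
  exact ⟨E, {
      mem := htE
      root := fun a ha => ha.1
      neg := fun a ha => chi_neg C ht hA ha
      cent := fun a ha => (hX a).trans (X_le_centralizer C ht ha)
      of_cent := fun a ha u hu hu1 hc => mem_Sx_of_centralizer C ht ha (hX a hu) hu1 hc
      fr := FE
      fix := hτt
      pos := hpos
      rp := fun w kk hkk => by
        obtain ⟨w', hw'⟩ := rp_fr H hG hsep F' (H.rp_up hkk)
        obtain ⟨k0, h0, h0'⟩ := H.exists_rp w'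
        have h1 : k0⁻¹ * τ kk ∈ TT D k := by
          rw [← hTL]
          exact h0'.unique hw'
        have h2 : k0⁻¹ * τ kk ∈ (emb hp.inList E.1.subtype).range := by
          rw [← GGj_eq hp cs]
          refine mul_mem (inv_mem ?_) (fr_GG FE ?_)
          · exact (mem_GG (H.rgd E)).2 ⟨w', cell_of_rp (h0 E)⟩
          · exact (mem_GG (H.rgd E)).2 ⟨w, cell_of_rp hkk⟩
        have h3 : k0⁻¹ * τ kk ∈ Tj hp E := (HX.mem_Tj hp cs hk r).2 ⟨h1, h2⟩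
        have e : τ kk = k0 * (k0⁻¹ * τ kk) := by group
        exact ⟨w', by rw [e]; exact (h0 E).mul_mem_right h3⟩
      comm := fun x hx y hy hxy hxy' a ha b hb => by
        have h1 := CommZ.comm_mem_Zj hp cs E hx.1 hy.1 hxy hxy' ha hb
        refine RGD.Sup_mono (S := CommZ.combZ cs hp x y) ?_ h1
        rintro z ⟨hz, i, j, hi, hj, e⟩
        obtain ⟨φ, h0, hadd, hφ⟩ := hA t ht
        have hn : ∀ (i : ℕ) (x : Fin l → ℤ), φ (i • x) = φ x ^ i := by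
          intro i x
          induction i with
          | zero => rw [zero_smul, pow_zero, h0]
          | succ i ih => rw [succ_nsmul, hadd, ih, pow_succ]
        refine ⟨⟨hz, ?_⟩, i, j, hi, hj, e⟩
        rw [hφ z hz, e, hadd, hn, hn, ← hφ x hx.1, ← hφ y hy.1, hx.2, hy.2, one_pow, one_pow, one_mul]
      fixed := fun a ha => hE2 E (a2.trans b1) a ha.1
      le := fun y hy => by
        rw [GGj_eq hp cs]
        exact hE4 E (a4.trans b2) hy }⟩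

/-- the rational points of the torus -/
abbrev TF (D : ChevalleyDatum) (k : Type u) [Field k] (τ : MulAut ↥(D.group k)) : Subgroup ↥(D.group k) :=
  TT D k ⊓ fixedSubgroup τ

/-- **The order of a centraliser.** -/
theorem card_fixC_le [IsAlgClosed k] (hk : LocFin k) {r e : ℕ} [Fact r.Prime] [CharP k r]
    {t : ↥(D.group k)} (ht : t ∈ TT D k) (he : 0 < e) {τ : MulAut ↥(D.group k)}
    (hτ : IsFrob r e τ) {g : (Fin l → ℤ) ≃+ (Fin l → ℤ)} (F : Fr cs hp.isCartan (TT D k) (XX D l k) τ g)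
    (hτt : τ t = t) (hpos : ∀ a ∈ Sx cs hp.isCartan (ch hp) t, 0 ≤ a → 0 ≤ g a) [Finite ↥(fixC τ t)]
    (Cw : Finset W) (hCw : ∀ w, (∀ a, IsRoot cs hp.isCartan a → ch hp (rep cs hp.isCartan w a) t = ch hp a t) →
      (∀ a, IsRoot cs hp.isCartan a → rep cs hp.isCartan w (g a) = g (rep cs hp.isCartan w a)) → w ∈ Cw) :
    Nat.card ↥(fixC τ t) ≤ Nat.card ↥(TF D k τ) * ((r ^ e) ^ (SP (Sx cs hp.isCartan (ch hp) t)).ncard *
      ∑ w ∈ Cw, (r ^ e) ^ (NW cs hp.isCartan w ∩ Sx cs hp.isCartan (ch hp) t).ncard) := by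
  classical
  have := finite_W hp cs
  have H := tow (k := k) hp cs hk r
  have C := coordsL (k := k) hp cs hk r
  have hTL := TL_eq (k := k) hp hk
  have hXL := XL_eq (k := k) hp hk
  have C' : Coords cs hp.isCartan (TL (Tj hp (k := k))) (nc hp k) (XL (Xj hp (k := k))) (xc hp) (ch hp) := by
    rw [hTL, hXL]; exact C
  have ht' : t ∈ TL (Tj hp (k := k)) := by rw [hTL]; exact ht
  set S := Sx cs hp.isCartan (ch hp) t with hS
  obtain ⟨E, Dt⟩ := exists_dat hp cs hk ht he hτ F hτt hpos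
  have hT : Tj hp E ≤ TT D k := by rw [← hTL]; exact le_TL E
  have hSup : ∀ (S' : Set (Fin l → ℤ)) {y : ↥(D.group k)}, y ∈ RGD.Sup (Xj hp E) S' → y ∈ RGD.Sup (XX D l k) S' := by
    intro S' y hy
    have h1 := Sup_le_SupL E S' hy
    rwa [hXL] at h1
  -- the set of the Weyl group elements
  let CW : Set W := {w | (∀ a, IsRoot cs hp.isCartan a → ch hp (rep cs hp.isCartan w a) t = ch hp a t) ∧
      (∀ a, IsRoot cs hp.isCartan a → rep cs hp.isCartan w (g a) = g (rep cs hp.isCartan w a))}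
  have hCWf : CW.Finite := Set.toFinite _
  have hgS : ∀ a, a ∈ S → g a ∈ S := fun a ha => Dt.g_mem ha
  have hform : ∀ c : ↥(fixC τ t), ∃ w ∈ CW, ∃ u : ↥(RGD.Sup (XX D l k) (SP S) ⊓ fixedSubgroup τ),
      ∃ k' : ↥(fixC τ t), Rp cs ((tow (k := k) hp cs hk r).rgd E).nsys w (k' : ↥(D.group k)) ∧
      ∃ v : ↥(RGD.Sup (XX D l k) (NW cs hp.isCartan w ∩ S) ⊓ fixedSubgroup τ),
      (c : ↥(D.group k)) = u * k' * v := by
    intro c
    obtain ⟨w, hw, u, hu, huf, k', hk'f, hk', v, hv, hvf, e⟩ := exists_form' Dt c.2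
    refine ⟨w, ⟨fun a ha => ?_, hw⟩, ⟨u, hSup _ hu, (mem_fixC.1 huf).1⟩, ⟨k', hk'f⟩, hk',
      ⟨v, hSup _ hv, (mem_fixC.1 hvf).1⟩, e⟩
    have h1 := C'.chi_rp H.nsys (H.rp_up hk') ha ht'
    have h2 : k' * t * k'⁻¹ = t := by rw [(mem_fixC.1 hk'f).2]; group
    rwa [h2] at h1
  choose fw hfw fu fk hfk fv hfv using hform
  -- representatives
  have hrep : ∀ w : W, ∃ k0 : ↥(fixC τ t), (∃ k1 : ↥(fixC τ t),
      Rp cs ((tow (k := k) hp cs hk r).rgd E).nsys w (k1 : ↥(D.group k))) →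
      Rp cs ((tow (k := k) hp cs hk r).rgd E).nsys w (k0 : ↥(D.group k)) := by
    intro w
    by_cases h1 : ∃ k1 : ↥(fixC τ t), Rp cs ((tow (k := k) hp cs hk r).rgd E).nsys w (k1 : ↥(D.group k))
    · obtain ⟨k1, hk1⟩ := h1
      exact ⟨k1, fun _ => hk1⟩
    · exact ⟨1, fun h2 => absurd h2 h1⟩
  choose k0 hk0 using hrep
  have hTf : ∀ c : ↥(fixC τ t), ((k0 (fw c))⁻¹ * fk c : ↥(fixC τ t)).1 ∈ TF D k τ := by
    intro c
    have h1 := hk0 (fw c) ⟨fk c, hfk c⟩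
    refine ⟨hT (h1.unique (hfk c)), ?_⟩
    exact (mem_fixC.1 ((k0 (fw c))⁻¹ * fk c).2).1
  -- finiteness
  have hTFfin : Finite ↥(TF D k τ) := by
    have h1 : TF D k τ ≤ fixC τ t := fun s hs => mem_fixC.2 ⟨hs.2, TT_comm hp s hs.1 t ht⟩
    exact Finite.of_injective (Subgroup.inclusion h1) (Subgroup.inclusion_injective h1)
  have hqpos : 0 < r ^ e := pow_pos (Fact.out : r.Prime).pos e
  have hcU : Nat.card ↥(RGD.Sup (XX D l k) (SP S) ⊓ fixedSubgroup τ) = (r ^ e) ^ (SP S).ncard :=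
    card_fix (hp := hp) (cs := cs) hk r he hτ F (Ψ := SP S) (fun a ha => ⟨ha.1.1, ha.2⟩)
      (zcl_Sx (r := r) hp cs hk ht) (fun a ha => ⟨hgS a ha.1, hpos a ha.1 ha.2⟩)
  have hcV : ∀ w ∈ CW, Nat.card ↥(RGD.Sup (XX D l k) (NW cs hp.isCartan w ∩ S) ⊓ fixedSubgroup τ) =
      (r ^ e) ^ (NW cs hp.isCartan w ∩ S).ncard := by
    intro w hw
    refine card_fix (hp := hp) (cs := cs) hk r he hτ F (Ψ := NW cs hp.isCartan w ∩ S)
      (fun a ha => ⟨ha.1.1, ha.1.2.1⟩) ?_ ?_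
    · intro x hx y hy z hz hz'
      have h1 := zcl_Sx (r := r) hp cs hk ht x ⟨hx.2, hx.1.2.1⟩ y ⟨hy.2, hy.1.2.1⟩ z hz hz'
      refine ⟨⟨hz, h1.2, ?_⟩, h1.1⟩
      obtain ⟨i, j, hi, hj, rfl⟩ := hz'
      rw [map_add, map_nsmul, map_nsmul]
      exact add_nonpos (nsmul_nonpos hx.1.2.2 i) (nsmul_nonpos hy.1.2.2 j)
    · rintro a ⟨⟨ha1, ha2, ha3⟩, haS⟩
      have hwa : rep cs hp.isCartan w a ∈ S := ⟨ha1.act w, by rw [hw.1 a ha1]; exact haS.2⟩
      refine ⟨⟨(F.root a).2 ha1, hpos a haS ha2, ?_⟩, hgS a haS⟩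
      rw [hw.2 a ha1]
      exact Dt.g_neg hwa ha3
  have hfinU : Finite ↥(RGD.Sup (XX D l k) (SP S) ⊓ fixedSubgroup τ) :=
    Nat.finite_of_card_ne_zero (by rw [hcU]; exact (pow_pos hqpos _).ne')
  let Cw' : Finset W := hCWf.toFinset
  have hmemCw' : ∀ w, w ∈ Cw' ↔ w ∈ CW := fun w => hCWf.mem_toFinset
  have hfinV : ∀ w : ↥Cw', Finite ↥(RGD.Sup (XX D l k) (NW cs hp.isCartan w.1 ∩ S) ⊓ fixedSubgroup τ) := fun w =>
    Nat.finite_of_card_ne_zero (by rw [hcV w.1 ((hmemCw' _).1 w.2)]; exact (pow_pos hqpos _).ne')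
  -- the injection
  let f : ↥(fixC τ t) → ↥(TF D k τ) × (↥(RGD.Sup (XX D l k) (SP S) ⊓ fixedSubgroup τ) ×
      (Σ w : ↥Cw', ↥(RGD.Sup (XX D l k) (NW cs hp.isCartan w.1 ∩ S) ⊓ fixedSubgroup τ))) := fun c =>
    (⟨_, hTf c⟩, fu c, ⟨⟨fw c, (hmemCw' _).2 (hfw c)⟩, fv c⟩)
  have hinj : Function.Injective f := by
    intro c c' hcc
    have e1 : ((k0 (fw c))⁻¹ * fk c : ↥(fixC τ t)).1 = ((k0 (fw c'))⁻¹ * fk c' : ↥(fixC τ t)).1 :=
      congrArg (fun x => (x.1 : ↥(D.group k))) hcc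
    have e2 : fu c = fu c' := congrArg (fun x => x.2.1) hcc
    have e3 : fw c = fw c' := congrArg (fun x => (x.2.2.1.1 : W)) hcc
    have e4 : ((fv c).1 : ↥(D.group k)) = (fv c').1 := congrArg (fun x => (x.2.2.2.1 : ↥(D.group k))) hcc
    apply Subtype.ext
    rw [hfv c, hfv c', e2, e4]
    have e5 : (fk c : ↥(D.group k)) = fk c' := by
      have e6 : (k0 (fw c))⁻¹ * fk c = (k0 (fw c'))⁻¹ * fk c' := Subtype.ext e1
      rw [e3] at e6
      exact congrArg Subtype.val (mul_left_cancel e6)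
    rw [e5]
  have hfin2 : Finite (Σ w : ↥Cw', ↥(RGD.Sup (XX D l k) (NW cs hp.isCartan w.1 ∩ S) ⊓ fixedSubgroup τ)) :=
    inferInstance
  refine (Nat.card_le_card_of_injective f hinj).trans ?_
  rw [Nat.card_prod, Nat.card_prod, Nat.card_sigma, hcU]
  refine Nat.mul_le_mul_left _ (Nat.mul_le_mul_left _ ?_)
  have h1 : ∑ w : ↥Cw', Nat.card ↥(RGD.Sup (XX D l k) (NW cs hp.isCartan w.1 ∩ S) ⊓ fixedSubgroup τ) =
      ∑ w : ↥Cw', (r ^ e) ^ (NW cs hp.isCartan w.1 ∩ S).ncard :=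
    Finset.sum_congr rfl fun w _ => hcV w.1 ((hmemCw' _).1 w.2)
  rw [h1, Finset.sum_coe_sort Cw' (fun w => (r ^ e) ^ (NW cs hp.isCartan w ∩ S).ncard)]
  refine Finset.sum_le_sum_of_subset fun w hw => ?_
  have h2 := (hmemCw' w).1 hw
  exact hCw w h2.1 h2.2

end

end Cfsg.Agent.H972.CS.Count
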