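import Cfsg.Agent.H972.CS.LinkOf

/-!
# The data of the evaluator for the type `E6` (helper972)

* `data6`, `link6` : the data and the link;
* `gok_one`, `gok_neg` : the lattice maps `1` and `- v`, `v ∈ W`;
* `kac6 s`, `meets6` : the Kac coordinates of degree `s`.
-/

set_option autoImplicit false
set_option linter.unusedSectionVars false

namespace Cfsg.Agent.H972.CS.E6Link

open CoxeterSystem Cfsg Cfsg.Lie Cfsg.Lie.ChevalleyDatum
open Cfsg.Agent.ChevalleyStructure Cfsg.Agent.ChevalleyStructure.Elts Cfsg.Agent.ChevalleyStructure.CoxeterGeom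
  Cfsg.Agent.ChevalleyStructure.CoxeterGeomTypes Cfsg.Agent.ChevalleyStructure.NPerm
open Cfsg.Agent.Tits.Roots Cfsg.Agent.Tits.Core Cfsg.Agent.Nodes Cfsg.Agent.Nodes.Reps Cfsg.Agent.Nodes.BNOf
  Cfsg.Agent.Nodes.RGDChev Cfsg.Agent.H129.TorusChar Cfsg.Agent.H129.TorusMain Cfsg.Agent.H972.CS.Main
  Cfsg.Agent.H972.CS.Torus Cfsg.Agent.H972.CS.Eval Cfsg.Agent.H972.CS.LinkOf

/-- the roots -/
def Rt6 : List (List ℤ) :=
  [[-1, -2, -2, -3, -2, -1], [-1, -1, -2, -3, -2, -1], [-1, -1, -2, -2, -2, -1], [-1, -1, -2, -2, -1, -1],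
   [-1, -1, -2, -2, -1, 0], [-1, -1, -1, -2, -2, -1], [-1, -1, -1, -2, -1, -1], [-1, -1, -1, -2, -1, 0],
   [-1, -1, -1, -1, -1, -1], [-1, -1, -1, -1, -1, 0], [-1, -1, -1, -1, 0, 0], [-1, 0, -1, -1, -1, -1],
   [-1, 0, -1, -1, -1, 0], [-1, 0, -1, -1, 0, 0], [-1, 0, -1, 0, 0, 0], [-1, 0, 0, 0, 0, 0],
   [0, -1, -1, -2, -2, -1], [0, -1, -1, -2, -1, -1], [0, -1, -1, -2, -1, 0], [0, -1, -1, -1, -1, -1],
   [0, -1, -1, -1, -1, 0], [0, -1, -1, -1, 0, 0], [0, -1, 0, -1, -1, -1], [0, -1, 0, -1, -1, 0],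
   [0, -1, 0, -1, 0, 0], [0, -1, 0, 0, 0, 0], [0, 0, -1, -1, -1, -1], [0, 0, -1, -1, -1, 0],
   [0, 0, -1, -1, 0, 0], [0, 0, -1, 0, 0, 0], [0, 0, 0, -1, -1, -1], [0, 0, 0, -1, -1, 0],
   [0, 0, 0, -1, 0, 0], [0, 0, 0, 0, -1, -1], [0, 0, 0, 0, -1, 0], [0, 0, 0, 0, 0, -1], [0, 0, 0, 0, 0, 1],
   [0, 0, 0, 0, 1, 0], [0, 0, 0, 0, 1, 1], [0, 0, 0, 1, 0, 0], [0, 0, 0, 1, 1, 0], [0, 0, 0, 1, 1, 1],
   [0, 0, 1, 0, 0, 0], [0, 0, 1, 1, 0, 0], [0, 0, 1, 1, 1, 0], [0, 0, 1, 1, 1, 1], [0, 1, 0, 0, 0, 0],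
   [0, 1, 0, 1, 0, 0], [0, 1, 0, 1, 1, 0], [0, 1, 0, 1, 1, 1], [0, 1, 1, 1, 0, 0], [0, 1, 1, 1, 1, 0],
   [0, 1, 1, 1, 1, 1], [0, 1, 1, 2, 1, 0], [0, 1, 1, 2, 1, 1], [0, 1, 1, 2, 2, 1], [1, 0, 0, 0, 0, 0],
   [1, 0, 1, 0, 0, 0], [1, 0, 1, 1, 0, 0], [1, 0, 1, 1, 1, 0], [1, 0, 1, 1, 1, 1], [1, 1, 1, 1, 0, 0],
   [1, 1, 1, 1, 1, 0], [1, 1, 1, 1, 1, 1], [1, 1, 1, 2, 1, 0], [1, 1, 1, 2, 1, 1], [1, 1, 1, 2, 2, 1],
   [1, 1, 2, 2, 1, 0], [1, 1, 2, 2, 1, 1], [1, 1, 2, 2, 2, 1], [1, 1, 2, 3, 2, 1], [1, 2, 2, 3, 2, 1]]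

/-- the functionals `B x` -/
def G6 : List (List ℤ) :=
  [[0, -1, 0, 0, 0, 0], [0, 1, 0, -1, 0, 0], [0, 0, -1, 1, -1, 0], [0, 0, -1, 0, 1, -1], [0, 0, -1, 0, 0, 1],
   [-1, 0, 1, 0, -1, 0], [-1, 0, 1, -1, 1, -1], [-1, 0, 1, -1, 0, 1], [-1, -1, 0, 1, 0, -1],
   [-1, -1, 0, 1, -1, 1], [-1, -1, 0, 0, 1, 0], [-1, 1, 0, 0, 0, -1], [-1, 1, 0, 0, -1, 1],
   [-1, 1, 0, -1, 1, 0], [-1, 0, -1, 1, 0, 0], [-2, 0, 1, 0, 0, 0], [1, 0, 0, 0, -1, 0],
   [1, 0, 0, -1, 1, -1], [1, 0, 0, -1, 0, 1], [1, -1, -1, 1, 0, -1], [1, -1, -1, 1, -1, 1],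
   [1, -1, -1, 0, 1, 0], [0, -1, 1, 0, 0, -1], [0, -1, 1, 0, -1, 1], [0, -1, 1, -1, 1, 0],
   [0, -2, 0, 1, 0, 0], [1, 1, -1, 0, 0, -1], [1, 1, -1, 0, -1, 1], [1, 1, -1, -1, 1, 0],
   [1, 0, -2, 1, 0, 0], [0, 1, 1, -1, 0, -1], [0, 1, 1, -1, -1, 1], [0, 1, 1, -2, 1, 0],
   [0, 0, 0, 1, -1, -1], [0, 0, 0, 1, -2, 1], [0, 0, 0, 0, 1, -2], [0, 0, 0, 0, -1, 2], [0, 0, 0, -1, 2, -1],
   [0, 0, 0, -1, 1, 1], [0, -1, -1, 2, -1, 0], [0, -1, -1, 1, 1, -1], [0, -1, -1, 1, 0, 1],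
   [-1, 0, 2, -1, 0, 0], [-1, -1, 1, 1, -1, 0], [-1, -1, 1, 0, 1, -1], [-1, -1, 1, 0, 0, 1],
   [0, 2, 0, -1, 0, 0], [0, 1, -1, 1, -1, 0], [0, 1, -1, 0, 1, -1], [0, 1, -1, 0, 0, 1],
   [-1, 1, 1, 0, -1, 0], [-1, 1, 1, -1, 1, -1], [-1, 1, 1, -1, 0, 1], [-1, 0, 0, 1, 0, -1],
   [-1, 0, 0, 1, -1, 1], [-1, 0, 0, 0, 1, 0], [2, 0, -1, 0, 0, 0], [1, 0, 1, -1, 0, 0], [1, -1, 0, 1, -1, 0],
   [1, -1, 0, 0, 1, -1], [1, -1, 0, 0, 0, 1], [1, 1, 0, 0, -1, 0], [1, 1, 0, -1, 1, -1], [1, 1, 0, -1, 0, 1],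
   [1, 0, -1, 1, 0, -1], [1, 0, -1, 1, -1, 1], [1, 0, -1, 0, 1, 0], [0, 0, 1, 0, 0, -1], [0, 0, 1, 0, -1, 1],
   [0, 0, 1, -1, 1, 0], [0, -1, 0, 1, 0, 0], [0, 1, 0, 0, 0, 0]]

/-- the codes of the roots -/
def Cd6 : List ℤ :=
  [-1602251, -1602234, -1597321, -1513800, -93943, -1597032, -1513511, -93654, -1508598, -88741, -5220,
   -1508581, -88724, -5203, -290, -1, -1597031, -1513510, -93653, -1508597, -88740, -5219, -1508308, -88451,
   -4930, -17, -1508580, -88723, -5202, -289, -1508291, -88434, -4913, -1503378, -83521, -1419857, 1419857,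
   83521, 1503378, 4913, 88434, 1508291, 289, 5202, 88723, 1508580, 17, 4930, 88451, 1508308, 5219, 88740,
   1508597, 93653, 1513510, 1597031, 1, 290, 5203, 88724, 1508581, 5220, 88741, 1508598, 93654, 1513511,
   1597032, 93943, 1513800, 1597321, 1602234, 1602251]

/-- the Gram matrix -/
def BL6 : List (List ℤ) :=
  [[2, 0, -1, 0, 0, 0], [0, 2, 0, -1, 0, 0], [-1, 0, 2, -1, 0, 0], [0, -1, -1, 2, -1, 0],
   [0, 0, 0, -1, 2, -1], [0, 0, 0, 0, -1, 2]]

/-- the pairs of orthogonal roots -/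
def O6 : ℕ := 0x1f003ffffc00f80000e31f847e21f8c7000325674b18d2e6a4c00549aad2c34b5592a00691d1e1a5878b8960182678f0990f1e6418284ab5694296ad52143092ce5a245a73490c490ccda62465b330925214b69542a96d284a64187b0c9930de18268960d21da5b84b069192a0a92ec374950549a4c064b718ed260325c7001c787e1e3800e3f80003c3ffc3c0001f1bd804cc9933201bd82db4095542aa902db4366c1266246648366c4e72219a2459844e7255aa42a942954255aa63c68330990cc163c671712c21a584348e8e6aa95412c3482a95565cc5980b18d019a33a3f03e0047e2007c0fc8e8e2e01a58074717195565502c340aa6aa9a33a988318c1195cc5c0fce0407e02073f03b18d319824198cb18daa554aa8421552aa559c398730180ce19c39d24b495500aa92d24bc993326600664cc993e42784cc813321e427e42784cc813321e427c993326600664cc993d24b495500aa92d24b9c398730180ce19c39aa554aa8421552aa55b18d319824198cb18dc0fce0407e02073f03a33a988318c1195cc595565502c340aa6aa98e8e2e01a5807471713f03e0047e2007c0fc5cc5980b18d019a33a6aa95412c3482a955671712c21a584348e8e63c68330990cc163c655aa42a942954255aa4e72219a2459844e72366c1266246648366c2db4095542aa902db41bd804cc9933201bd8f80003c3ffc3c0001fc7001c787e1e3800e3a4c064b718ed26032592a0a92ec3749505498960d21da5b84b069164187b0c9930de18265214b69542a96d284a490ccda62465b330923092ce5a245a73490c284ab5694296ad5214182678f0990f1e64180691d1e1a5878b89600549aad2c34b5592a00325674b18d2e6a4c000e31f847e21f8c700001f003ffffc00f800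

/-- the pairs of roots with product `-1` -/
def P6 : ℕ := 0x3ff07fe0000004001dc0738fd00000080862c195b3b0000010128342a6d5700000202503834768f0000040c06c0c19bc700000814294142adab00001024518184b673000020198a0248ce6d0000402a940290d5b500008033600320e3d900002dc00a4400f16e000056c0148800eab600009b40611000dcda0000e383802000bf1c0000fc3c0000007fe00027000006ccde0027004b000029556d004b009300005199b30093010d00018a2673010d02150002942aad02150419000360331e0419080e001c0a438b01611016002c14835502a1201a00346102e604c1401c003b8001f80701016101c00a780b080e02a102c014b415101604c10340612c26201a07010383801c38401c08620c440b8443086210a2144415488510a220c2184460d10620c2092424888c444909241224448892889112240948291122444a09481290522244889412902448891149112224482490922231112424904304608b06221843044508a112a8222845084610c221d02230461038021c3801c1c080e0580464348602c083206808a82d28034085407010d01e500380868080e01f8001dc00380283206740862c0058048540aac128340068088680d1c25038007010982078cc06c0009820a840b554294000a840b080ce64518000b080c900cd998a0000c900d200b6aa940000d200e4007b33600000e40007fe0000003c3f000038fd000401c1c700005b3b00088602d900006d57001128036a0000768f00225003b400009bc704c006cc010000adab09402954020000b67312405198040000ce6d21818a24080000d5b542829428100000e3d983036030200000f16e2c1c0a40400000eab6542c1480800000dcda98346101000000bf1ce03b80020000007fe0ffc00000000000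

/-- the relations -/
def R6 (b : ℤ) : ℕ := if b = 0 then O6 else if b = -1 then P6 else 0

/-- the bilinear form -/
def B6 (i j : Fin 6) : ℤ := (BL6.getD i []).getD j 0

/-- **The data.** -/
def data6 : Data where
  N := 72
  Rt := Rt6
  ev := [1, 17, 289, 4913, 83521, 1419857]
  Cd := Cd6
  rel i j := R6 ((BL6.getD i []).getD j 0)
  cv := [1, 0, 2, 0, 1, 2]
  m := 3

set_option maxRecDepth 1000000 in
theorem all6 : allChk R6 [0, -1] 72 Rt6 G6 0 = true := by decide +kernel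

variable {M : CoxeterMatrix (Fin 6)} (hp : IsType chevE6 6 M) {W : Type*} [Group W] (cs : CoxeterSystem M W)

set_option maxRecDepth 1000000 in
/-- **The link.** -/
theorem link6 : Link data6 hp cs B6 :=
  link_of hp cs data6 B6 G6 R6 [0, -1] (by decide +kernel) (by decide +kernel) (by decide +kernel)
    (by decide +kernel) (by decide +kernel) (by decide +kernel) (by decide +kernel) (by decide +kernel)
    (by decide +kernel) (by decide +kernel) (by decide +kernel) (by decide +kernel) all6 (by decide +kernel)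
    (by decide +kernel)

theorem gok_one : GOk data6 hp cs B6 (AddEquiv.refl _) 1 where
  root a ha := ha
  inv _ _ := rfl
  cv := ⟨0, by rw [one_smul, smul_zero]; exact sub_self _⟩

theorem gok_neg {g : (Fin 6 → ℤ) ≃+ (Fin 6 → ℤ)} {v : W} (hg : ∀ a, g a = -rep cs hp.isCartan v a) :
    GOk data6 hp cs B6 g (-1) where
  root a ha := by rw [hg]; exact (ha.act v).neg
  inv a b := by
    rw [hg, hg, ← (link6 hp cs).inv v a b]
    unfold bil
    refine Finset.sum_congr rfl fun i _ => Finset.sum_congr rfl fun j _ => ?_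
    rw [Pi.neg_apply, Pi.neg_apply]; ring
  cv := by
    obtain ⟨y, hy⟩ := (link6 hp cs).cvi v
    refine ⟨-y, ?_⟩
    rw [hg, smul_neg, ← hy, neg_smul, one_smul]
    abel

/-- the tuples with `∑ m_i c_i ≤ n` -/
def tups : List ℕ → ℕ → List (List ℤ)
  | [], _ => [[]]
  | m :: ms, n => (List.range (n + 1)).flatMap fun c =>
      if m * c ≤ n then (tups ms (n - m * c)).map fun t => (c : ℤ) :: t else []

theorem mem_tups : ∀ (ms : List ℕ) (n : ℕ) (t : List ℕ), t.length = ms.length → (∀ m ∈ ms, 0 < m) →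
    (List.zipWith (· * ·) ms t).sum ≤ n → t.map (fun c : ℕ => (c : ℤ)) ∈ tups ms n := by
  intro ms
  induction ms with
  | nil =>
    intro n t ht _ _
    rw [List.length_nil, List.length_eq_zero_iff] at ht
    subst ht
    exact List.mem_singleton_self _
  | cons m ms ih =>
    intro n t ht hm hs
    cases t with
    | nil => simp at ht
    | cons c t =>
      rw [List.zipWith_cons_cons, List.sum_cons] at hs
      have h1 := hm m List.mem_cons_self
      rw [tups, List.mem_flatMap]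
      refine ⟨c, List.mem_range.2 ?_, ?_⟩
      · have : c ≤ m * c := Nat.le_mul_of_pos_left c h1
        omega
      · rw [if_pos (by omega), List.map_cons, List.mem_map]
        refine ⟨_, ih (n - m * c) t (by simpa using ht) (fun m' h => hm m' (List.mem_cons_of_mem _ h)) (by omega), rfl⟩

/-- the Kac coordinates of degree `s` (without `c0`) -/
def kac6 (s : ℕ) : List (List ℤ) := tups [1, 2, 2, 3, 2, 1] s

theorem kac_length {s : ℕ} {fl : List ℤ} (h : fl ∈ kac6 s) : fl.length = 6 := by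
  have key : ∀ (ms : List ℕ) (n : ℕ) (t : List ℤ), t ∈ tups ms n → t.length = ms.length := by
    intro ms
    induction ms with
    | nil =>
      intro n t ht
      rw [tups, List.mem_singleton] at ht
      rw [ht]; rfl
    | cons m ms ih =>
      intro n t ht
      rw [tups, List.mem_flatMap] at ht
      obtain ⟨c, -, hc⟩ := ht
      split_ifs at hc with h1
      · rw [List.mem_map] at hc
        obtain ⟨t', ht', rfl⟩ := hc
        rw [List.length_cons, List.length_cons, ih _ _ ht']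
      · simp at hc
  exact key _ _ _ h

set_option maxRecDepth 1000000 in
theorem hr6 : ∀ i : Fin 6, Cfsg.Agent.H931.KC.hr chevE6 6 i = (([1, 2, 2, 3, 2, 1] : List ℤ).getD i 0) := by decide +kernel

/-- **The Kac coordinates meet all orbits.** -/
theorem meets6 (hp : IsType chevE6 6 M) {s : ℕ} (hs : 0 < s) :
    Meets hp M.toCoxeterSystem (RfL 6 s (kac6 s)) := by
  refine meets_alcove hp hs _ fun c c0 hK => ?_
  refine ⟨(List.ofFn c).map (fun c : ℕ => (c : ℤ)), mem_tups _ _ _ (by simp) (by decide) ?_, fun i => ?_⟩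
  · have h1 := hK.sum
    simp only [hr6] at h1
    simp only [List.ofFn_succ, List.ofFn_zero, List.zipWith_cons_cons, List.zipWith_nil_left, List.sum_cons, List.sum_nil]
    simp only [Fin.sum_univ_succ, Finset.univ_eq_empty, Finset.sum_empty] at h1
    simp at h1 ⊢
    omega
  · fin_cases i <;> simp [List.ofFn_succ]

end Cfsg.Agent.H972.CS.E6Link
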