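import Cfsg.Agent.H972.CS.Main

/-!
# Evaluation of the centraliser formula by enumeration (helper972)

The elements of `W` are given by the indices of the images of the simple roots; the isometries of the root system with
prescribed values of `f` are enumerated by a depth first search.

* `dfs`, `mem_dfs`; `detL`, `det_eq`; `sum_le`;
* `Link` : the computational data of a root system; `bound_val` : the value of the formula is at most `value`.
-/

set_option autoImplicit false
set_option linter.unusedSectionVars false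

namespace Cfsg.Agent.H972.CS.Eval

/-! ### the search -/

/-- the relations with the chosen indices -/
def okr (N : ℕ) : List ℕ → List ℕ → ℕ → Bool
  | B :: Bs, a :: acc, r => B.testBit (N * a + r) && okr N Bs acc r
  | _, _, _ => true

theorem okr_map (N : ℕ) (f g : ℕ → ℕ) (L : List ℕ) (r : ℕ) (h : ∀ j ∈ L, (f j).testBit (N * g j + r) = true) :
    okr N (L.map f) (L.map g) r = true := by
  induction L with
  | nil => rfl
  | cons j L ih =>
    rw [List.map_cons, List.map_cons, okr, h j List.mem_cons_self, Bool.true_and]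
    exact ih fun j hj => h j (List.mem_cons_of_mem _ hj)

/-- the depth first search: `specs` is the list of (candidates, relations with the earlier ones) -/
def dfs (N : ℕ) : List (List ℕ × List ℕ) → List ℕ → List (List ℕ)
  | [], acc => [acc]
  | (cl, ms) :: rest, acc => (cl.filter fun r => okr N ms acc r).flatMap fun r => dfs N rest (r :: acc)

/-- the specification -/
def specs (rel : ℕ → ℕ → ℕ) (cl : ℕ → List ℕ) (i : ℕ) : ℕ → List (List ℕ × List ℕ)
  | 0 => []
  | n + 1 => (cl i, (List.range i).reverse.map (rel i)) :: specs rel cl (i + 1) n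

theorem range_succ_reverse (i : ℕ) : (List.range (i + 1)).reverse = i :: (List.range i).reverse := by
  rw [List.range_succ, List.reverse_append]
  rfl

theorem mem_dfs (N : ℕ) (rel : ℕ → ℕ → ℕ) (cl : ℕ → List ℕ) (V : ℕ → ℕ) (l : ℕ) (h1 : ∀ i < l, V i ∈ cl i)
    (h2 : ∀ i < l, ∀ j < i, (rel i j).testBit (N * V j + V i) = true) (n i : ℕ) (hi : i + n = l) :
    (List.range l).reverse.map V ∈ dfs N (specs rel cl i n) ((List.range i).reverse.map V) := by
  induction n generalizing i with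
  | zero =>
    rw [Nat.add_zero] at hi
    rw [hi, specs, dfs]
    exact List.mem_singleton_self _
  | succ n ih =>
    rw [specs, dfs, List.mem_flatMap]
    refine ⟨V i, List.mem_filter.2 ⟨h1 i (by omega), okr_map _ _ _ _ _ fun j hj => ?_⟩, ?_⟩
    · rw [List.mem_reverse, List.mem_range] at hj
      exact h2 i (by omega) j hj
    · have h3 := ih (i + 1) (by omega)
      rw [range_succ_reverse, List.map_cons] at h3
      exact h3

/-! ### the determinant -/

/-- partial sums -/
def sumR (f : ℕ → ℤ) : ℕ → ℤ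
  | 0 => 0
  | j + 1 => sumR f j + f j

theorem sumR_eq (f : ℕ → ℤ) (n : ℕ) : sumR f n = ∑ i ∈ Finset.range n, f i := by
  induction n with
  | zero => rfl
  | succ n ih => rw [sumR, ih, Finset.sum_range_succ]

/-- the Laplace expansion along the first row -/
def detL : ℕ → List (List ℤ) → ℤ
  | 0, _ => 1
  | n + 1, L => sumR (fun j => if (L.headD []).getD j 0 = 0 then 0 else
      (if j % 2 = 0 then (L.headD []).getD j 0 else -(L.headD []).getD j 0) *
        detL n (L.tail.map fun x => x.eraseIdx j)) (n + 1)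

/-- the matrix of a list -/
def mat (n : ℕ) (L : List (List ℤ)) : Matrix (Fin n) (Fin n) ℤ := fun i j => (L.getD i []).getD j 0

theorem mat_erase (n : ℕ) (L : List (List ℤ)) (j : Fin (n + 1)) :
    mat n (L.tail.map fun x => x.eraseIdx j) = (mat (n + 1) L).submatrix Fin.succ j.succAbove := by
  ext i k
  rw [Matrix.submatrix_apply, mat, mat]
  have h1 : ((L.tail.map fun x => x.eraseIdx (j : ℕ)).getD (i : ℕ) []) = (L.getD ((i : ℕ) + 1) []).eraseIdx j := by
    rw [List.getD_eq_getElem?_getD, List.getD_eq_getElem?_getD, List.getElem?_map, List.getElem?_tail]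
    cases L[(i : ℕ) + 1]? with
    | none => simp
    | some x => rfl
  rw [h1, List.getD_eq_getElem?_getD, List.getD_eq_getElem?_getD, List.getElem?_eraseIdx]
  have h2 : ((Fin.succ i : Fin (n + 1)) : ℕ) = (i : ℕ) + 1 := rfl
  rw [h2]
  congr 1
  by_cases h : (k : ℕ) < j
  · rw [if_pos h, Fin.succAbove_of_castSucc_lt j k (by exact h)]
    rfl
  · rw [if_neg h, Fin.succAbove_of_le_castSucc j k (by exact not_lt.1 h)]
    rfl

theorem det_eq (n : ℕ) (L : List (List ℤ)) : (mat n L).det = detL n L := by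
  induction n generalizing L with
  | zero => rw [Matrix.det_fin_zero]; rfl
  | succ n ih =>
    rw [Matrix.det_succ_row_zero, detL, sumR_eq, Finset.sum_range]
    refine Finset.sum_congr rfl fun j _ => ?_
    have h1 : mat (n + 1) L 0 j = (L.headD []).getD j 0 := by
      cases L with
      | nil => rfl
      | cons x L => rfl
    rw [h1, ← mat_erase, ih]
    by_cases h0 : (L.headD []).getD (j : ℕ) 0 = 0
    · rw [if_pos h0, h0, mul_zero, zero_mul]
    · rw [if_neg h0]
      by_cases h2 : (j : ℕ) % 2 = 0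
      · rw [if_pos h2, (Nat.even_iff.2 h2).neg_one_pow, one_mul]
      · rw [if_neg h2, (Nat.not_even_iff_odd.1 (fun h3 => h2 (Nat.even_iff.1 h3))).neg_one_pow, neg_one_mul]

/-! ### sums over lists -/

theorem sum_le {α β : Type*} [DecidableEq β] (S : Finset α) (g : α → β) (L : List β) (w1 : α → ℕ) (w2 : β → ℕ)
    (hg : ∀ a ∈ S, ∀ b ∈ S, g a = g b → a = b) (hL : ∀ a ∈ S, g a ∈ L) (hw : ∀ a ∈ S, w1 a ≤ w2 (g a)) :
    ∑ a ∈ S, w1 a ≤ (L.map w2).sum := by
  calc ∑ a ∈ S, w1 a ≤ ∑ a ∈ S, w2 (g a) := Finset.sum_le_sum hw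
    _ = ∑ b ∈ S.image g, w2 b := (Finset.sum_image hg).symm
    _ ≤ ∑ b ∈ L.toFinset, w2 b := by
      refine Finset.sum_le_sum_of_subset fun b hb => ?_
      obtain ⟨a, ha, rfl⟩ := Finset.mem_image.1 hb
      exact List.mem_toFinset.2 (hL a ha)
    _ = (L.dedup.map w2).sum := by
      rw [Finset.sum_eq_multiset_sum, List.toFinset_val, Multiset.map_coe, Multiset.sum_coe]
    _ ≤ (L.map w2).sum := ((List.dedup_sublist L).map w2).sum_le_sum fun _ _ => Nat.zero_le _

/-! ### lists of integers as vectors -/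

/-- dot product -/
def dot : List ℤ → List ℤ → ℤ
  | a :: as, b :: bs => a * b + dot as bs
  | _, _ => 0

/-- the vector of a list -/
def vl (l : ℕ) (L : List ℤ) : Fin l → ℤ := fun i => L.getD i 0

theorem dot_eq (l : ℕ) (x y : List ℤ) (hx : x.length = l) (hy : y.length = l) :
    dot x y = ∑ i : Fin l, vl l x i * vl l y i := by
  induction l generalizing x y with
  | zero =>
    rw [List.length_eq_zero_iff] at hx
    subst hx
    cases y <;> rfl
  | succ l ih =>
    cases x with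
    | nil => simp at hx
    | cons a x =>
      cases y with
      | nil => simp at hy
      | cons b y =>
        rw [List.length_cons] at hx hy
        rw [dot, ih x y (by omega) (by omega), Fin.sum_univ_succ]
        rfl

/-! ### the data of a root system -/

/-- the computational data: `N` roots with coordinates `Rt`, the functional `ev`, the values `Cd` of `ev`, the relations -/
structure Data where
  N : ℕ
  Rt : List (List ℤ)
  ev : List ℤ
  Cd : List ℤ
  rel : ℕ → ℕ → ℕ
  /-- a vector preserved by `W` modulo `m` -/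
  cv : List ℤ
  m : ℤ

section

open CoxeterSystem Cfsg Cfsg.Lie Cfsg.Lie.ChevalleyDatum
open Cfsg.Agent.ChevalleyStructure Cfsg.Agent.ChevalleyStructure.Elts Cfsg.Agent.ChevalleyStructure.CoxeterGeom
  Cfsg.Agent.ChevalleyStructure.CoxeterGeomTypes Cfsg.Agent.ChevalleyStructure.NPerm
open Cfsg.Agent.Tits.Roots Cfsg.Agent.Tits.Core Cfsg.Agent.Nodes Cfsg.Agent.Nodes.Reps Cfsg.Agent.Nodes.BNOf
  Cfsg.Agent.Nodes.RGDChev Cfsg.Agent.H129.TorusChar Cfsg.Agent.H129.TorusMain Cfsg.Agent.H972.CS.Main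
  Cfsg.Agent.H972.CS.Torus

variable (Da : Data)

/-- the coordinates of a root -/
def Data.rt (r : ℕ) : List ℤ := Da.Rt.getD r []

/-- the code of a root -/
def Data.cd (r : ℕ) : ℤ := Da.Cd.getD r 0

/-- the roots `r` with `f r = tgt`, positive if `pos` -/
def Data.cls (s : ℤ) (fl : List ℤ) (tgt : ℤ) (pos : Bool) : List ℕ :=
  (List.range Da.N).filter fun r => (dot (Da.rt r) fl - tgt) % s == 0 && (!pos || decide (0 < Da.cd r))

/-- `f x ≡ tgt` -/
def Data.comm (Θ V : List ℕ) : Bool :=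
  (Θ.zip V).all fun p => dot (Da.rt p.1) (V.map Da.cd) == dot (Da.rt p.2) (Θ.map Da.cd)

/-- the congruence for `cv` -/
def Data.chk (ε : ℤ) (V : List ℕ) : Bool := (dot Da.cv (V.map Da.cd) - ε * dot Da.cv Da.ev) % Da.m == 0

/-- the coordinates of the positive roots killed by `f` -/
def Data.psiL (s : ℤ) (fl : List ℤ) : List (List ℤ) :=
  ((List.range Da.N).filter fun r => dot (Da.rt r) fl % s == 0 && decide (0 < Da.cd r)).map Da.rt

/-- the number of the roots of `P` made negative -/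
def Data.cnt (P : List (List ℤ)) (V : List ℕ) : ℕ := (P.filter fun X => decide (dot X (V.map Da.cd) ≤ 0)).length

/-- `θ` keeps the roots of `P` positive -/
def Data.keep (P : List (List ℤ)) (V : List ℕ) : Bool := P.all fun X => decide (0 ≤ dot X (V.map Da.cd))

/-- the weight of a leaf -/
def Data.wt (q : ℕ) (P : List (List ℤ)) (Θ : List ℕ) (acc : List ℕ) : ℕ :=
  if Da.chk 1 acc.reverse && Da.comm Θ acc.reverse then q ^ Da.cnt P acc.reverse else 0

/-- the rows of `θ - q` -/
def Data.rows (l q : ℕ) (Θ : List ℕ) : List (List ℤ) :=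
  (List.range l).map fun i => (List.range l).map fun j => (Da.rt (Θ.getD i 0)).getD j 0 - if i = j then (q : ℤ) else 0

/-- the search list for the `v` -/
def Data.vs (l : ℕ) (s : ℤ) (fl : List ℤ) : List (List ℕ) :=
  dfs Da.N (specs Da.rel (fun i => Da.cls s fl (fl.getD i 0) false) 0 l) []

/-- the search list for the `θ` -/
def Data.ths (l q : ℕ) (s : ℤ) (fl : List ℤ) : List (List ℕ) :=
  dfs Da.N (specs Da.rel (fun i => Da.cls s fl (q * fl.getD i 0) (fl.getD i 0 % s == 0)) 0 l) []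

/-- the value -/
def Data.value (l q : ℕ) (s : ℤ) (fl : List ℤ) (Θ : List ℕ) : ℕ :=
  (detL l (Da.rows l q Θ)).natAbs * (q ^ (Da.psiL s fl).length * ((Da.vs l s fl).map (Da.wt q (Da.psiL s fl) Θ)).sum)

/-- the bound for one `f` -/
def Data.ok (l q : ℕ) (s : ℤ) (ε : ℤ) (K : ℕ) (fl : List ℤ) : Bool :=
  (Da.ths l q s fl).all fun acc =>
    !(Da.chk ε acc.reverse && Da.keep (Da.psiL s fl) acc.reverse) || decide (Da.value l q s fl acc.reverse ≤ K)

variable {D : ChevalleyDatum} {l : ℕ} {M : CoxeterMatrix (Fin l)} (hp : IsType D l M)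
  {W : Type*} [Group W] (cs : CoxeterSystem M W)

/-- the bilinear form -/
def bil {l : ℕ} (B : Fin l → Fin l → ℤ) (x y : Fin l → ℤ) : ℤ := ∑ i, ∑ j, x i * B i j * y j

/-- the link between the data and the group -/
structure Link (B : Fin l → Fin l → ℤ) : Prop where
  root : ∀ a, IsRoot cs hp.isCartan a → ∃ r < Da.N, vl l (Da.rt r) = a
  isr : ∀ r < Da.N, IsRoot cs hp.isCartan (vl l (Da.rt r))
  len : ∀ r < Da.N, (Da.rt r).length = l
  evl : Da.ev.length = l
  evp : ∀ i < l, 0 < Da.ev.getD i 0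
  cd : ∀ r < Da.N, Da.cd r = dot (Da.rt r) Da.ev
  inv : ∀ (w : W) a b, bil B (rep cs hp.isCartan w a) (rep cs hp.isCartan w b) = bil B a b
  rel : ∀ i j : Fin l, j < i → ∀ r < Da.N, ∀ s < Da.N, bil B (vl l (Da.rt r)) (vl l (Da.rt s)) = B i j →
    (Da.rel i j).testBit (Da.N * s + r) = true
  cvl : Da.cv.length = l
  cvi : ∀ w : W, ∃ y : Fin l → ℤ, rep cs hp.isCartan w (vl l Da.cv) - vl l Da.cv = Da.m • y

/-- isometries of the root system -/
structure Isom (B : Fin l → Fin l → ℤ) (θ : (Fin l → ℤ) →+ (Fin l → ℤ)) : Prop where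
  root : ∀ a, IsRoot cs hp.isCartan a → IsRoot cs hp.isCartan (θ a)
  inv : ∀ a b, bil B (θ a) (θ b) = bil B a b

variable {Da} {hp} {cs} {B : Fin l → Fin l → ℤ} (L : Link Da hp cs B)

theorem bil_sr (i j : Fin l) : bil B (sr i) (sr j) = B i j := by
  unfold bil
  rw [Finset.sum_eq_single i, Finset.sum_eq_single j]
  · simp [sr]
  · intro b _ hb
    simp [sr, hb]
  · intro h; exact absurd (Finset.mem_univ j) h
  · intro b _ hb
    refine Finset.sum_eq_zero fun c _ => ?_
    simp [sr, hb]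
  · intro h; exact absurd (Finset.mem_univ i) h

include L in
/-- the indices of the images of the simple roots -/
theorem exists_idx {θ : (Fin l → ℤ) →+ (Fin l → ℤ)} (hθ : Isom hp cs B θ) :
    ∃ V : ℕ → ℕ, ∀ i : Fin l, V i < Da.N ∧ vl l (Da.rt (V i)) = θ (sr i) := by
  have h1 : ∀ i : Fin l, ∃ r < Da.N, vl l (Da.rt r) = θ (sr i) := fun i =>
    L.root _ (hθ.root _ (isRoot_sr cs hp.isCartan i))
  choose f hf hf' using h1
  refine ⟨fun i => if h : i < l then f ⟨i, h⟩ else 0, fun i => ?_⟩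
  have h2 : (fun i => if h : i < l then f ⟨i, h⟩ else 0) (i : ℕ) = f i := dif_pos i.2
  rw [h2]
  exact ⟨hf i, hf' i⟩

/-- the list of the indices -/
def tup (l : ℕ) (V : ℕ → ℕ) : List ℕ := (List.range l).map V

theorem tup_length (V : ℕ → ℕ) : (tup l V).length = l := by rw [tup, List.length_map, List.length_range]

theorem tup_getD (V : ℕ → ℕ) (i : ℕ) (hi : i < l) : (tup l V).getD i 0 = V i := by
  rw [tup, List.getD_eq_getElem?_getD, List.getElem?_map, List.getElem?_range hi]
  rfl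

include L in
/-- the code of an image -/
theorem dot_codes {θ : (Fin l → ℤ) →+ (Fin l → ℤ)} {V : ℕ → ℕ}
    (hV : ∀ i : Fin l, V i < Da.N ∧ vl l (Da.rt (V i)) = θ (sr i)) (X : List ℤ) (hX : X.length = l) :
    dot X ((tup l V).map Da.cd) = ∑ j, θ (vl l X) j * vl l Da.ev j := by
  rw [dot_eq l X _ hX (by rw [List.length_map, tup_length])]
  have h1 : θ (vl l X) = ∑ i, vl l X i • θ (sr i) := by
    conv_lhs => rw [eq_sum_sr (vl l X)]
    rw [map_sum]
    exact Finset.sum_congr rfl fun i _ => by rw [map_zsmul]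
  have h2 : ∀ i : Fin l, vl l ((tup l V).map Da.cd) i = ∑ j, θ (sr i) j * vl l Da.ev j := by
    intro i
    have h3 : vl l ((tup l V).map Da.cd) i = Da.cd (V i) := by
      unfold vl
      rw [List.getD_eq_getElem?_getD, List.getElem?_map, tup, List.getElem?_map, List.getElem?_range i.2]
      rfl
    rw [h3, L.cd _ (hV i).1, dot_eq l _ _ (L.len _ (hV i).1) L.evl, (hV i).2]
  simp only [h2, h1]
  rw [Finset.sum_congr rfl fun i _ => Finset.mul_sum _ _ _, Finset.sum_comm]
  refine Finset.sum_congr rfl fun j _ => ?_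
  rw [Finset.sum_apply, Finset.sum_mul]
  refine Finset.sum_congr rfl fun i _ => ?_
  rw [Pi.smul_apply, smul_eq_mul]
  ring

theorem f_vl {s : ℕ} {f : (Fin l → ℤ) →+ ZMod s} {fl : List ℤ} (hfl : fl.length = l)
    (hf : ∀ i : Fin l, f (sr i) = ((fl.getD i 0 : ℤ) : ZMod s)) (X : List ℤ) (hX : X.length = l) :
    f (vl l X) = ((dot X fl : ℤ) : ZMod s) := by
  rw [dot_eq l X fl hX hfl]
  conv_lhs => rw [eq_sum_sr (vl l X)]
  rw [map_sum, Int.cast_sum]
  refine Finset.sum_congr rfl fun i _ => ?_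
  rw [map_zsmul, hf, zsmul_eq_mul, Int.cast_mul]
  rfl

theorem mod_of_eq {s : ℕ} {a b : ℤ} (h : ((a : ℤ) : ZMod s) = ((b : ℤ) : ZMod s)) : (a - b) % (s : ℤ) = 0 := by
  have h1 : (((a - b : ℤ)) : ZMod s) = 0 := by rw [Int.cast_sub, h, sub_self]
  exact Int.emod_eq_zero_of_dvd ((ZMod.intCast_zmod_eq_zero_iff_dvd _ _).1 h1)

theorem eq_of_mod {s : ℕ} {a : ℤ} (h : a % (s : ℤ) = 0) : ((a : ℤ) : ZMod s) = 0 :=
  (ZMod.intCast_zmod_eq_zero_iff_dvd _ _).2 (Int.dvd_of_emod_eq_zero h)

include L in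
theorem ev_pos {a : Fin l → ℤ} (ha : 0 ≤ a) (h0 : a ≠ 0) : 0 < ∑ j, a j * vl l Da.ev j := by
  refine Finset.sum_pos' (fun j _ => mul_nonneg (ha j) (L.evp j j.2).le) ?_
  by_contra hcon
  push Not at hcon
  apply h0
  funext j
  have h1 := hcon j (Finset.mem_univ j)
  have h2 := L.evp j j.2
  have h3 := ha j
  rw [Pi.zero_apply] at h3 ⊢
  have h4 : a j * vl l Da.ev j ≤ 0 := h1
  have h5 : (0 : ℤ) < vl l Da.ev j := h2
  nlinarith

include L in
theorem ev_nonpos {a : Fin l → ℤ} (ha : a ≤ 0) : ∑ j, a j * vl l Da.ev j ≤ 0 :=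
  Finset.sum_nonpos fun j _ => mul_nonpos_of_nonpos_of_nonneg (ha j) (L.evp j j.2).le

include L in
theorem ev_nonneg {a : Fin l → ℤ} (ha : 0 ≤ a) : 0 ≤ ∑ j, a j * vl l Da.ev j :=
  Finset.sum_nonneg fun j _ => mul_nonneg (ha j) (L.evp j j.2).le

include L in
/-- the isometries are found by the search -/
theorem mem_search {θ : (Fin l → ℤ) →+ (Fin l → ℤ)} (hθ : Isom hp cs B θ) {V : ℕ → ℕ}
    (hV : ∀ i : Fin l, V i < Da.N ∧ vl l (Da.rt (V i)) = θ (sr i)) {s : ℕ} {f : (Fin l → ℤ) →+ ZMod s} {fl : List ℤ}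
    (hfl : fl.length = l) (hf : ∀ i : Fin l, f (sr i) = ((fl.getD i 0 : ℤ) : ZMod s)) (tgt : ℕ → ℤ) (pos : ℕ → Bool)
    (ht : ∀ i : Fin l, f (θ (sr i)) = ((tgt i : ℤ) : ZMod s)) (hpos : ∀ i : Fin l, pos i = true → 0 ≤ θ (sr i)) :
    (tup l V).reverse ∈ dfs Da.N (specs Da.rel (fun i => Da.cls s fl (tgt i) (pos i)) 0 l) [] := by
  have h := mem_dfs Da.N Da.rel (fun i => Da.cls s fl (tgt i) (pos i)) V l ?_ ?_ l 0 (Nat.zero_add l)
  · rw [tup, ← List.map_reverse]
    exact h
  · intro i hi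
    have h1 := hV ⟨i, hi⟩
    refine List.mem_filter.2 ⟨List.mem_range.2 h1.1, ?_⟩
    rw [Bool.and_eq_true]
    constructor
    · rw [beq_iff_eq]
      apply mod_of_eq
      rw [← f_vl hfl hf _ (L.len _ h1.1), h1.2]
      exact ht ⟨i, hi⟩
    · by_cases h2 : pos i = true
      · rw [h2, Bool.not_true, Bool.false_or, decide_eq_true_iff, L.cd _ h1.1,
          dot_eq l _ _ (L.len _ h1.1) L.evl, h1.2]
        refine ev_pos L (hpos ⟨i, hi⟩ h2) ?_
        exact (hθ.root _ (isRoot_sr cs hp.isCartan ⟨i, hi⟩)).ne_zero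
      · rw [Bool.not_eq_true] at h2
        rw [h2]
        rfl
  · intro i hi j hj
    have h1 := hV ⟨i, hi⟩
    have h2 := hV ⟨j, by omega⟩
    refine L.rel ⟨i, hi⟩ ⟨j, by omega⟩ hj _ h1.1 _ h2.1 ?_
    rw [h1.2, h2.2, hθ.inv, bil_sr]

/-! ### the value -/

theorem ncard_le_length {α β : Type*} {S : Set α} (P : List β) (f : β → α) (h : ∀ a ∈ S, ∃ b ∈ P, f b = a) :
    S.ncard ≤ P.length := by
  classical
  have h1 : S ⊆ ((P.map f).toFinset : Set α) := by
    intro a ha
    obtain ⟨b, hb, rfl⟩ := h a ha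
    rw [Finset.mem_coe, List.mem_toFinset]
    exact List.mem_map_of_mem hb
  refine (Set.ncard_le_ncard h1 (Finset.finite_toSet _)).trans ?_
  rw [Set.ncard_coe_finset]
  exact (List.toFinset_card_le _).trans (le_of_eq (List.length_map _))

include L in
theorem mem_psiL {s : ℕ} {f : (Fin l → ℤ) →+ ZMod s} {fl : List ℤ} (hfl : fl.length = l)
    (hf : ∀ i : Fin l, f (sr i) = ((fl.getD i 0 : ℤ) : ZMod s)) {a : Fin l → ℤ} (ha : a ∈ Main.psi cs hp.isCartan f) :
    ∃ X ∈ Da.psiL s fl, vl l X = a ∧ X.length = l := by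
  obtain ⟨h1, h2, h3⟩ := ha
  obtain ⟨r, hr, e⟩ := L.root a h1
  refine ⟨Da.rt r, List.mem_map_of_mem (List.mem_filter.2 ⟨List.mem_range.2 hr, ?_⟩), e, L.len r hr⟩
  rw [Bool.and_eq_true]
  constructor
  · rw [beq_iff_eq]
    have h4 := mod_of_eq (s := s) (a := dot (Da.rt r) fl) (b := 0)
      (by rw [← f_vl hfl hf _ (L.len r hr), e, h3, Int.cast_zero])
    rwa [sub_zero] at h4
  · rw [decide_eq_true_iff, L.cd r hr, dot_eq l _ _ (L.len r hr) L.evl, e]
    exact ev_pos L h2 h1.ne_zero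

include L in
theorem det_value {θ : (Fin l → ℤ) →+ (Fin l → ℤ)} {V : ℕ → ℕ}
    (hV : ∀ i : Fin l, V i < Da.N ∧ vl l (Da.rt (V i)) = θ (sr i)) (q : ℕ) :
    LinearMap.det (gq θ q) = detL l (Da.rows l q (tup l V)) := by
  rw [← det_eq, ← LinearMap.det_toMatrix', ← Matrix.det_transpose]
  congr 1
  ext i j
  rw [Matrix.transpose_apply, LinearMap.toMatrix'_apply]
  have h2 : mat l (Da.rows l q (tup l V)) i j = (Da.rt (V i)).getD j 0 - if (i : ℕ) = j then (q : ℤ) else 0 := by
    unfold mat Data.rows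
    rw [List.getD_eq_getElem?_getD, List.getD_eq_getElem?_getD, List.getElem?_map, List.getElem?_range i.2]
    simp only [Option.map_some, Option.getD_some]
    rw [List.getElem?_map, List.getElem?_range j.2]
    simp only [Option.map_some, Option.getD_some]
    rw [tup_getD V i i.2]
  rw [h2]
  have h3 : (Da.rt (V i)).getD j 0 = θ (sr i) j := by
    rw [← (hV i).2]
    rfl
  rw [h3]
  have h4 : ∀ x : Fin l → ℤ, x = sr i → (gq θ q) x j = θ (sr i) j - if (i : ℕ) = j then (q : ℤ) else 0 := by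
    rintro x rfl
    rw [gq_apply, Pi.sub_apply, Pi.smul_apply, smul_eq_mul]
    congr 1
    by_cases h : i = j
    · subst h
      rw [if_pos rfl, sr_self, mul_one]
    · rw [if_neg (fun e => h (Fin.ext e))]
      have h5 : (sr i : Fin l → ℤ) j = 0 := by
        simp only [sr]
        exact Pi.single_eq_of_ne (fun e => h e.symm) 1
      rw [h5, mul_zero]
  exact h4 (sr i) rfl

/-- an element of `W` as an additive map -/
noncomputable def rpH (hp : IsType D l M) (cs : CoxeterSystem M W) (w : W) : (Fin l → ℤ) →+ (Fin l → ℤ) :=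
  (rep cs hp.isCartan w).toAddMonoidHom

theorem rpH_apply (w : W) (x : Fin l → ℤ) : rpH hp cs w x = rep cs hp.isCartan w x := rfl

include L in
theorem isom_rp (w : W) : Isom hp cs B (rpH hp cs w) :=
  ⟨fun _ ha => ha.act w, fun a b => L.inv w a b⟩

include L in
theorem chk_of {θ : (Fin l → ℤ) →+ (Fin l → ℤ)} {V : ℕ → ℕ}
    (hV : ∀ i : Fin l, V i < Da.N ∧ vl l (Da.rt (V i)) = θ (sr i)) {ε : ℤ}
    (h : ∃ y : Fin l → ℤ, θ (vl l Da.cv) - ε • vl l Da.cv = Da.m • y) : Da.chk ε (tup l V) = true := by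
  obtain ⟨y, hy⟩ := h
  unfold Data.chk
  rw [beq_iff_eq, dot_codes L hV Da.cv L.cvl, dot_eq l _ _ L.cvl L.evl]
  have h1 : ∀ j, θ (vl l Da.cv) j = ε * vl l Da.cv j + Da.m * y j := by
    intro j
    have := congrFun hy j
    rw [Pi.sub_apply, Pi.smul_apply, Pi.smul_apply, smul_eq_mul, smul_eq_mul] at this
    linarith
  have h2 : ∑ j, θ (vl l Da.cv) j * vl l Da.ev j - ε * ∑ i, vl l Da.cv i * vl l Da.ev i =
      Da.m * ∑ j, y j * vl l Da.ev j := by
    rw [Finset.mul_sum, Finset.mul_sum, ← Finset.sum_sub_distrib]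
    refine Finset.sum_congr rfl fun j _ => ?_
    rw [h1]
    ring
  rw [h2]
  exact Int.mul_emod_right _ _

include L in
theorem comm_of {θ θ' : (Fin l → ℤ) →+ (Fin l → ℤ)} {V V' : ℕ → ℕ}
    (hV : ∀ i : Fin l, V i < Da.N ∧ vl l (Da.rt (V i)) = θ (sr i))
    (hV' : ∀ i : Fin l, V' i < Da.N ∧ vl l (Da.rt (V' i)) = θ' (sr i)) (h : ∀ x, θ' (θ x) = θ (θ' x)) :
    Da.comm (tup l V) (tup l V') = true := by
  unfold Data.comm
  rw [List.all_eq_true]
  intro p hp'
  have h1 : (tup l V).zip (tup l V') = (List.range l).map fun i => (V i, V' i) := by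
    rw [tup, tup, List.zip_map']
  rw [h1, List.mem_map] at hp'
  obtain ⟨i, hi, rfl⟩ := hp'
  rw [List.mem_range] at hi
  have h2 := hV ⟨i, hi⟩
  have h3 := hV' ⟨i, hi⟩
  show (dot (Da.rt (V i)) ((tup l V').map Da.cd) == dot (Da.rt (V' i)) ((tup l V).map Da.cd)) = true
  rw [beq_iff_eq, dot_codes L hV' _ (L.len _ h2.1), dot_codes L hV _ (L.len _ h3.1)]
  have h4 : vl l (Da.rt (V i)) = θ (sr ⟨i, hi⟩) := h2.2
  have h5 : vl l (Da.rt (V' i)) = θ' (sr ⟨i, hi⟩) := h3.2
  rw [h4, h5, h]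

include L in
theorem cnt_of {s : ℕ} {f : (Fin l → ℤ) →+ ZMod s} {fl : List ℤ} (hfl : fl.length = l)
    (hf : ∀ i : Fin l, f (sr i) = ((fl.getD i 0 : ℤ) : ZMod s)) {v : W} {V : ℕ → ℕ}
    (hV : ∀ i : Fin l, V i < Da.N ∧ vl l (Da.rt (V i)) = rpH hp cs v (sr i)) :
    (Main.psiN cs hp.isCartan f v).ncard ≤ Da.cnt (Da.psiL s fl) (tup l V) := by
  unfold Data.cnt
  refine ncard_le_length _ (vl l) fun a ha => ?_
  obtain ⟨h1, h2, h3, h4⟩ := ha
  obtain ⟨X, hX, e, hl⟩ := mem_psiL L hfl hf (a := a) ⟨h1, h2, h3⟩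
  refine ⟨X, List.mem_filter.2 ⟨hX, ?_⟩, e⟩
  rw [decide_eq_true_iff, dot_codes L hV X hl, e]
  exact ev_nonpos L h4

include L in
/-- **The value of the formula.** -/
theorem val_le [Finite W] {g : (Fin l → ℤ) ≃+ (Fin l → ℤ)} {w : W} {q s : ℕ} (hq : 0 < q)
    {f : (Fin l → ℤ) →+ ZMod s} {fl : List ℤ} (hfl : fl.length = l)
    (hf : ∀ i : Fin l, f (sr i) = ((fl.getD i 0 : ℤ) : ZMod s)) {V : ℕ → ℕ}
    (hV : ∀ i : Fin l, V i < Da.N ∧ vl l (Da.rt (V i)) = theta hp cs w g (sr i)) :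
    ∃ Cw : Finset W, Cov hp cs g f w Cw ∧ val hp cs g q f w Cw ≤ Da.value l q s fl (tup l V) := by
  classical
  have := Fintype.ofFinite W
  refine ⟨Finset.univ.filter fun v => (∀ y, f (rep cs hp.isCartan v y) = f y) ∧
    ∀ y, rep cs hp.isCartan v (theta hp cs w g y) = theta hp cs w g (rep cs hp.isCartan v y), fun v h1 h2 =>
    Finset.mem_filter.2 ⟨Finset.mem_univ v, h1, h2⟩, ?_⟩
  unfold val Data.value
  rw [det_value L hV q]
  refine Nat.mul_le_mul_left _ (Nat.mul_le_mul (Nat.pow_le_pow_right hq ?_) ?_)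
  · exact ncard_le_length _ (vl l) fun a ha => by
      obtain ⟨X, hX, e, -⟩ := mem_psiL L hfl hf ha
      exact ⟨X, hX, e⟩
  · have hv : ∀ v : W, ∃ U : ℕ → ℕ, ∀ i : Fin l, U i < Da.N ∧ vl l (Da.rt (U i)) = rpH hp cs v (sr i) := fun v =>
      exists_idx L (isom_rp L v)
    choose U hU using hv
    refine sum_le _ (fun v => (tup l (U v)).reverse) (Da.vs l s fl) _ _ ?_ ?_ ?_
    · intro a _ b _ hab
      have h1 := List.reverse_injective hab
      apply rep_injective cs hp.isCartan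
      have h2 : ∀ i : Fin l, rep cs hp.isCartan a (sr i) = rep cs hp.isCartan b (sr i) := by
        intro i
        have h3 : U a i = U b i := by
          rw [← tup_getD (U a) i i.2, ← tup_getD (U b) i i.2]
          show (tup l (U a)).getD i 0 = (tup l (U b)).getD i 0
          rw [h1]
        have h4 := (hU a i).2
        rw [h3, (hU b i).2] at h4
        exact h4.symm
      refine LinearMap.ext fun x => ?_
      rw [eq_sum_sr x, map_sum, map_sum]
      exact Finset.sum_congr rfl fun i _ => by rw [map_zsmul, map_zsmul, h2]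
    · intro v hv
      obtain ⟨-, h1, -⟩ := Finset.mem_filter.1 hv
      refine mem_search L (isom_rp L v) (hU v) hfl hf (fun i => fl.getD i 0) (fun _ => false) (fun i => ?_)
        (fun i h => by simp at h)
      rw [rpH_apply, h1]
      exact hf i
    · intro v hv
      obtain ⟨-, h1, h2⟩ := Finset.mem_filter.1 hv
      unfold Data.wt
      rw [List.reverse_reverse]
      have h3 : Da.chk 1 (tup l (U v)) = true := chk_of L (hU v) (by
        obtain ⟨y, hy⟩ := L.cvi v
        exact ⟨y, by rw [one_smul]; exact hy⟩)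
      have h4 : Da.comm (tup l V) (tup l (U v)) = true := comm_of L hV (hU v) h2
      rw [h3, h4, Bool.and_self, if_pos rfl]
      exact Nat.pow_le_pow_right hq (cnt_of L hfl hf (hU v))

/-- `g` is compatible with the data -/
structure GOk (Da : Data) (hp : IsType D l M) (cs : CoxeterSystem M W) (B : Fin l → Fin l → ℤ)
    (g : (Fin l → ℤ) ≃+ (Fin l → ℤ)) (ε : ℤ) : Prop where
  root : ∀ a, IsRoot cs hp.isCartan a → IsRoot cs hp.isCartan (g a)
  inv : ∀ a b, bil B (g a) (g b) = bil B a b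
  cv : ∃ y : Fin l → ℤ, g (vl l Da.cv) - ε • vl l Da.cv = Da.m • y

include L in
/-- **The bound for one `f`.** -/
theorem ok_sound [Finite W] {g : (Fin l → ℤ) ≃+ (Fin l → ℤ)} {ε : ℤ} (hg : GOk Da hp cs B g ε) {w : W} {q s : ℕ}
    (hq : 0 < q) {f : (Fin l → ℤ) →+ ZMod s} {fl : List ℤ} (hfl : fl.length = l)
    (hf : ∀ i : Fin l, f (sr i) = ((fl.getD i 0 : ℤ) : ZMod s)) (hP : Pair hp cs g q s f w) {K : ℕ}
    (hok : Da.ok l q s ε K fl = true) : ∃ Cw : Finset W, Cov hp cs g f w Cw ∧ val hp cs g q f w Cw ≤ K := by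
  have hI : Isom hp cs B (theta hp cs w g) := by
    refine ⟨fun a ha => (hg.root a ha).act w, fun a b => ?_⟩
    rw [theta_apply, theta_apply, L.inv, hg.inv]
  obtain ⟨V, hV⟩ := exists_idx L hI
  obtain ⟨Cw, h1, h2⟩ := val_le L hq hfl hf hV
  refine ⟨Cw, h1, h2.trans ?_⟩
  unfold Data.ok at hok
  rw [List.all_eq_true] at hok
  have h3 := hok (tup l V).reverse (mem_search L hI hV hfl hf (fun i => q * fl.getD i 0)
    (fun i => fl.getD i 0 % (s : ℤ) == 0) (fun i => by
      rw [hP.mul, hf, nsmul_eq_mul, Int.cast_mul, Int.cast_natCast]) (fun i hi => by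
      rw [beq_iff_eq] at hi
      refine hP.pos _ (isRoot_sr cs hp.isCartan i) ?_ ?_
      · intro j
        simp only [sr]
        by_cases h : j = i
        · subst h; simp
        · simp [h]
      · rw [hf]
        exact eq_of_mod hi))
  rw [List.reverse_reverse] at h3
  have h4 : Da.chk ε (tup l V) = true := by
    refine chk_of L hV ?_
    obtain ⟨y, hy⟩ := hg.cv
    obtain ⟨y', hy'⟩ := L.cvi w
    refine ⟨rep cs hp.isCartan w y + ε • y', ?_⟩
    have h5 : g (vl l Da.cv) = ε • vl l Da.cv + Da.m • y := by rw [← hy]; abel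
    rw [theta_apply, h5, map_add, map_zsmul, map_zsmul, smul_add, smul_comm Da.m ε y', ← hy', smul_sub]
    abel
  have h5 : Da.keep (Da.psiL s fl) (tup l V) = true := by
    unfold Data.keep
    rw [List.all_eq_true]
    intro X hX
    rw [decide_eq_true_iff]
    unfold Data.psiL at hX
    rw [List.mem_map] at hX
    obtain ⟨r, hr, rfl⟩ := hX
    rw [List.mem_filter, Bool.and_eq_true, beq_iff_eq, decide_eq_true_iff, List.mem_range] at hr
    obtain ⟨hr1, hr2, hr3⟩ := hr
    rw [dot_codes L hV _ (L.len r hr1)]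
    have h6 := L.isr r hr1
    have h7 : 0 ≤ vl l (Da.rt r) := by
      rcases h6.pos_or_neg with h8 | h8
      · exact h8
      · exfalso
        have h9 := ev_nonpos L h8
        rw [L.cd r hr1, dot_eq l _ _ (L.len r hr1) L.evl] at hr3
        exact absurd hr3 (not_lt.2 h9)
    have h8 : f (vl l (Da.rt r)) = 0 := by
      rw [f_vl hfl hf _ (L.len r hr1)]
      exact eq_of_mod hr2
    exact ev_nonneg L (hP.pos _ h6 h7 h8)
  rw [h4, h5] at h3
  simpa using h3

end

end Cfsg.Agent.H972.CS.Eval
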