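import Cfsg.Agent.H972.CS.F4Two
import Cfsg.Agent.H27.TS.Det
import Cfsg.Agent.H931.KC.Alcove
import Cfsg.Agent.S1092

/-!
# Semisimple centralisers in `F₄(q)`, all `q` (helper972)

* `f4_gen` : `|C(x)| ≤ 1152 (q + 1)^4 q^18` for `x` of odd prime order prime to `q` in `F₄(q)`;
* `f4_gen_two` : `|C(x)| ≤ 1152 (q + 1)^4 q^32` for `x` of prime order prime to `q`.
-/

set_option autoImplicit false
set_option linter.unusedSectionVars false

namespace Cfsg.Agent.H972.CS.F4Gen

open CoxeterSystem Cfsg Cfsg.Lie Cfsg.Lie.ChevalleyDatum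
open Cfsg.Agent.ChevalleyStructure Cfsg.Agent.ChevalleyStructure.Elts Cfsg.Agent.ChevalleyStructure.CoxeterGeom
  Cfsg.Agent.ChevalleyStructure.CoxeterGeomTypes Cfsg.Agent.ChevalleyStructure.NPerm
open Cfsg.Agent.Tits.Roots Cfsg.Agent.Tits.Core Cfsg.Agent.Nodes Cfsg.Agent.Nodes.Reps Cfsg.Agent.Nodes.BNOf
  Cfsg.Agent.Nodes.RGDChev
open Cfsg.Agent.KFacts.RgdField Cfsg.Agent.KFacts.RgdChevCoord
open Cfsg.Agent.BpExc Cfsg.Agent.BpExc.NChev Cfsg.Agent.H129.TorusChar Cfsg.Agent.H129.TorusUntw Cfsg.Agent.H972.CS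
  Cfsg.Agent.H972.CS.Main Cfsg.Agent.H972.CS.Eval Cfsg.Agent.H972.CS.LinkOf Cfsg.Agent.H972.CS.F4Link
  Cfsg.Agent.H972.CS.F4Two
open Cfsg.Agent.H931.KC (Kac hr exists_alcove dvd_iff)

universe u v

/-! ### the untwisted bound at any set of representatives -/

section

variable {D : ChevalleyDatum} {l : ℕ} {M : CoxeterMatrix (Fin l)} (hp : IsType D l M)
  {F : Type u} [Field F] [Fintype F]

/-- **The crude bound** (untwisted groups). -/
theorem cent_crude {d : ℕ} {B' : Fin l → Fin l → ℤ} (hB' : InvC D l d B') (hd : d ≠ 0) (hd1 : d = 1 ∨ d.Prime)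
    {s : ℕ} (hs : s.Prime) (hsF : (s : F) ≠ 0) {Rf : Set ((Fin l → ℤ) →+ ZMod s)}
    (hRf : Meets hp M.toCoxeterSystem Rf) {N : ℕ}
    (hN : ∀ f ∈ Rf, f ≠ 0 → (Main.psi M.toCoxeterSystem hp.isCartan f).ncard ≤ N) {x : ↥(D.group F)}
    (hx : orderOf x = s) :
    Nat.card ↥(Subgroup.centralizer {x}) ≤
      Nat.card M.Group * (Fintype.card F + 1) ^ l * Fintype.card F ^ (2 * N) := by
  obtain ⟨r, e, hr, hrF, hrk, he, hq, hk⟩ := exists_closure (F := F) rfl
  have hsr : s ≠ r := by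
    rintro rfl
    exact hsF (CharP.cast_eq_zero F s)
  obtain ⟨p, hp2, hpd⟩ : ∃ p : ℕ, p.Prime ∧ ¬ p ∣ d := by
    obtain ⟨p, h1, h2⟩ := Nat.exists_infinite_primes (d + 1)
    exact ⟨p, h2, fun h => by have := Nat.le_of_dvd (Nat.pos_of_ne_zero hd) h; omega⟩
  have : Fact p.Prime := ⟨hp2⟩
  have hset := Cfsg.Agent.H795.Untw.setup_untw hp hk (algebraMap F (AlgebraicClosure F)) he hq hB' hd hd1 (p := p) hpd
  have hfin := finite_W hp M.toCoxeterSystem
  have hxs : x ^ s = 1 := by rw [← hx, pow_orderOf_eq_one]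
  have hx1 : x ≠ 1 := by
    rintro rfl
    rw [orderOf_one] at hx
    exact hs.one_lt.ne hx
  let _ := ZMod.algebra F r
  have h1 : Algebra.IsAlgebraic (ZMod r) F := Algebra.IsAlgebraic.of_finite _ _
  have h2 : Algebra.IsAlgebraic (ZMod r) (AlgebraicClosure F) := Algebra.IsAlgebraic.trans (ZMod r) F _
  obtain ⟨z, hz⟩ := TorAll.exists_toral' hp r (y := Cfsg.Agent.GpExc.Field.emb hp.inList (algebraMap F (AlgebraicClosure F)) x) hs hsr
    (by rw [← map_pow, hxs, map_one])
  obtain ⟨f, hf, hf0, w, hP, hC⟩ := bound_setup hk hset hB' hd hs hsr hRf hxs hx1 rfl hz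
  let _ : Fintype M.Group := Fintype.ofFinite _
  have hq0 : 0 < r ^ e := pow_pos (Fact.out : r.Prime).pos e
  have h3 := hC Finset.univ (fun v _ _ => Finset.mem_univ v)
  have h4 := Cfsg.Agent.H27.TS.Det.val_le hp M.toCoxeterSystem hq0 f w Finset.univ
  refine (h3.trans h4).trans ?_
  rw [hq, Finset.card_univ, ← Nat.card_eq_fintype_card]
  calc (r ^ e + 1) ^ l * ((r ^ e) ^ (2 * (Main.psi M.toCoxeterSystem hp.isCartan f).ncard) * Nat.card M.Group)
      ≤ (r ^ e + 1) ^ l * ((r ^ e) ^ (2 * N) * Nat.card M.Group) := by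
        refine Nat.mul_le_mul_left _ (Nat.mul_le_mul_right _ (Nat.pow_le_pow_right hq0 ?_))
        exact Nat.mul_le_mul_left 2 (hN f hf hf0)
    _ = _ := by ring

end

/-! ### the number of roots, type `F4` -/

/-- the roots killed at a pattern -/
def patOk (P : List Bool) (b : Bool) (X : List ℤ) : Bool :=
  ((List.range 4).all fun i => decide (0 ≤ X.getD i 0)) &&
  (((List.range 4).all fun i => X.getD i 0 == 0 || !(P.getD i false)) ||
    (!b && (List.range 4).all fun i => X.getD i 0 == ([2, 4, 3, 2] : List ℤ).getD i 0 || !(P.getD i false)))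

/-- their number -/
def cnt (P : List Bool) (b : Bool) : ℕ := (Rt4.filter (patOk P b)).length

/-- the patterns -/
def pats : List (List Bool × Bool) :=
  [false, true].flatMap fun a => [false, true].flatMap fun b => [false, true].flatMap fun c =>
    [false, true].flatMap fun d => [false, true].map fun e => ([a, b, c, d], e)

set_option maxRecDepth 1000000 in
theorem cnt_nine : (pats.all fun p => p.1 == [false, false, false, false] ||
    (!p.2 && (p.1 == [true, false, false, false] || p.1 == [false, false, false, true])) ||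
    decide (cnt p.1 p.2 ≤ 9)) = true := by decide +kernel

set_option maxRecDepth 1000000 in
theorem cnt_sixteen : (pats.all fun p => p.1 == [false, false, false, false] ||
    decide (cnt p.1 p.2 ≤ 16)) = true := by decide +kernel

theorem mem_pats (a b c d e : Bool) : ([a, b, c, d], e) ∈ pats := by
  revert a b c d e
  decide

set_option maxRecDepth 1000000 in
theorem hr4 : ∀ i : Fin 4, hr chevF4 4 i = (([2, 4, 3, 2] : List ℤ).getD i 0) := by decide +kernel

section

variable {M : CoxeterMatrix (Fin 4)} (hp : IsType chevF4 4 M)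

/-- `f` has the Kac coordinates `c`, `c0` -/
structure Alc {s : ℕ} (f : (Fin 4 → ℤ) →+ ZMod s) (c : Fin 4 → ℕ) (c0 : ℕ) : Prop where
  kac : Kac chevF4 4 s c c0
  eq : ∀ i, f (sr i) = ((c i : ℕ) : ZMod s)

theorem meets_alc {s : ℕ} (hs : 0 < s) :
    Meets hp M.toCoxeterSystem {f : (Fin 4 → ℤ) →+ ZMod s | ∃ c c0, Alc f c c0} := by
  intro f
  have : NeZero s := ⟨hs.ne'⟩
  let b : (Fin 4 → ℤ) →+ ℤ :=
    { toFun := fun x => ∑ i, x i * ((f (sr i)).val : ℤ)
      map_zero' := by simp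
      map_add' := fun x y => by
        rw [← Finset.sum_add_distrib]
        refine Finset.sum_congr rfl fun i _ => ?_
        rw [Pi.add_apply, add_mul] }
  have hb : ∀ x, ((b x : ℤ) : ZMod s) = f x := by
    intro x
    show (((∑ i, x i * ((f (sr i)).val : ℤ) : ℤ)) : ZMod s) = f x
    conv_rhs => rw [eq_sum_sr x, map_sum]
    rw [Int.cast_sum]
    refine Finset.sum_congr rfl fun i _ => ?_
    rw [map_zsmul, Int.cast_mul, zsmul_eq_mul, Int.cast_natCast, ZMod.natCast_zmod_val]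
  obtain ⟨w, c, c0, h1, h2⟩ := exists_alcove hp hs b
  refine ⟨w, c, c0, h1, fun i => ?_⟩
  have h3 := (ZMod.intCast_zmod_eq_zero_iff_dvd _ s).2 (h2 (sr i))
  rw [Int.cast_sub, sub_eq_zero, hb] at h3
  have h4 : (∑ j, (sr i : Fin 4 → ℤ) j * (c j : ℤ)) = c i := by
    rw [Finset.sum_eq_single i]
    · rw [sr_self, one_mul]
    · intro j _ hj
      rw [sr_ne hj, zero_mul]
    · intro h
      exact absurd (Finset.mem_univ i) h
  rw [h4, Int.cast_natCast] at h3
  exact h3.symm

/-- the pattern of `c` -/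
def pt (c : Fin 4 → ℕ) : List Bool := [decide (c 0 ≠ 0), decide (c 1 ≠ 0), decide (c 2 ≠ 0), decide (c 3 ≠ 0)]

theorem psi_le_cnt {s : ℕ} {f : (Fin 4 → ℤ) →+ ZMod s} {c : Fin 4 → ℕ} {c0 : ℕ} (H : Alc f c c0) :
    (Main.psi M.toCoxeterSystem hp.isCartan f).ncard ≤ cnt (pt c) (decide (c0 ≠ 0)) := by
  refine ncard_le_length _ (vl 4) fun a ha => ?_
  obtain ⟨h1, h2, h3⟩ := ha
  have L := link4 hp M.toCoxeterSystem
  obtain ⟨r, hr', e⟩ := L.root a h1
  have hlen := L.len r hr'
  refine ⟨data4.rt r, List.mem_filter.2 ⟨?_, ?_⟩, e⟩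
  · unfold Data.rt
    have h4 : r < data4.Rt.length := by
      have : data4.Rt.length = 48 := by decide +kernel
      rw [this]; exact hr'
    rw [List.getD_eq_getElem _ _ h4]
    exact List.getElem_mem _
  · have hX : ∀ i : Fin 4, (data4.rt r).getD i 0 = a i := fun i => congrFun e i
    have hf : (s : ℤ) ∣ ∑ i, a i * (c i : ℤ) := by
      rw [← ZMod.intCast_zmod_eq_zero_iff_dvd, Int.cast_sum]
      have h5 := eq_sum_sr a
      rw [h5, map_sum] at h3
      rw [← h3]
      refine Finset.sum_congr rfl fun i _ => ?_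
      rw [map_zsmul, H.eq, zsmul_eq_mul, Int.cast_mul, Int.cast_natCast]
    have h6 := (dvd_iff hp H.kac h1 h2).1 hf
    have h0 := hX 0
    have h01 := hX 1
    have h02 := hX 2
    have h03 := hX 3
    have g0 := h2 0
    have g1 := h2 1
    have g2 := h2 2
    have g3 := h2 3
    unfold patOk pt
    simp only [Fin.val_zero, Fin.isValue, Fin.val_one, Fin.val_two] at h0 h01 h02 h03
    change (data4.rt r).getD 3 0 = a 3 at h03
    simp only [List.range_succ, List.range_zero, List.nil_append, List.cons_append, List.all_cons, List.all_nil,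
      Bool.and_true, h0, h01, h02, h03]
    have k0 : (0 : ℤ) ≤ a 0 := g0
    have k1 : (0 : ℤ) ≤ a 1 := g1
    have k2 : (0 : ℤ) ≤ a 2 := g2
    have k3 : (0 : ℤ) ≤ a 3 := g3
    simp only [k0, k1, k2, k3, decide_true, Bool.true_and]
    rcases h6 with h6 | ⟨h6, h7⟩
    · have m0 := h6 0
      have m1 := h6 1
      have m2 := h6 2
      have m3 := h6 3
      simp
      left
      refine ⟨?_, ?_, ?_, ?_⟩
      · by_cases h : a 0 = 0
        · exact Or.inl h
        · exact Or.inr (m0 h)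
      · by_cases h : a 1 = 0
        · exact Or.inl h
        · exact Or.inr (m1 h)
      · by_cases h : a 2 = 0
        · exact Or.inl h
        · exact Or.inr (m2 h)
      · by_cases h : a 3 = 0
        · exact Or.inl h
        · exact Or.inr (m3 h)
    · have m0 := h7 0
      have m1 := h7 1
      have m2 := h7 2
      have m3 := h7 3
      rw [hr4] at m0 m1 m2 m3
      simp at m0 m1 m2 m3
      simp
      right
      refine ⟨h6, ?_, ?_, ?_, ?_⟩
      · by_cases h : a 0 = 2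
        · exact Or.inl h
        · exact Or.inr (m0 h)
      · by_cases h : a 1 = 4
        · exact Or.inl h
        · exact Or.inr (m1 h)
      · by_cases h : a 2 = 3
        · exact Or.inl h
        · exact Or.inr (m2 h)
      · by_cases h : a 3 = 2
        · exact Or.inl h
        · exact Or.inr (m3 h)

theorem ne_zero_of {s : ℕ} {f : (Fin 4 → ℤ) →+ ZMod s} {c : Fin 4 → ℕ} {c0 : ℕ} (H : Alc f c c0) (hf0 : f ≠ 0) :
    ∃ i, c i ≠ 0 := by
  by_contra h
  push Not at h
  apply hf0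
  refine AddMonoidHom.ext fun y => ?_
  rw [eq_sum_sr y, map_sum]
  refine Finset.sum_eq_zero fun i _ => ?_
  rw [map_zsmul, H.eq, h i, Nat.cast_zero, smul_zero]

theorem psi_le_sixteen {s : ℕ} {f : (Fin 4 → ℤ) →+ ZMod s} {c : Fin 4 → ℕ} {c0 : ℕ} (H : Alc f c c0) (hf0 : f ≠ 0) :
    (Main.psi M.toCoxeterSystem hp.isCartan f).ncard ≤ 16 := by
  refine (psi_le_cnt hp H).trans ?_
  have h1 := List.all_eq_true.1 cnt_sixteen _ (mem_pats (decide (c 0 ≠ 0)) (decide (c 1 ≠ 0)) (decide (c 2 ≠ 0))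
    (decide (c 3 ≠ 0)) (decide (c0 ≠ 0)))
  rw [Bool.or_eq_true, decide_eq_true_iff] at h1
  rcases h1 with h1 | h1
  · exfalso
    obtain ⟨i, hi⟩ := ne_zero_of H hf0
    rw [beq_iff_eq] at h1
    simp only [List.cons.injEq, decide_eq_false_iff_not, not_not, and_true] at h1
    obtain ⟨a0, a1, a2, a3⟩ := h1
    fin_cases i
    · exact hi a0
    · exact hi a1
    · exact hi a2
    · exact hi a3
  · exact h1

theorem psi_le_nine {s : ℕ} (hs : s.Prime) (hs2 : s ≠ 2) {f : (Fin 4 → ℤ) →+ ZMod s} {c : Fin 4 → ℕ} {c0 : ℕ}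
    (H : Alc f c c0) (hf0 : f ≠ 0) : (Main.psi M.toCoxeterSystem hp.isCartan f).ncard ≤ 9 := by
  refine (psi_le_cnt hp H).trans ?_
  have h1 := List.all_eq_true.1 cnt_nine _ (mem_pats (decide (c 0 ≠ 0)) (decide (c 1 ≠ 0)) (decide (c 2 ≠ 0))
    (decide (c 3 ≠ 0)) (decide (c0 ≠ 0)))
  have hsum := H.kac.sum
  simp only [hr4, Fin.sum_univ_succ, Finset.univ_eq_empty, Finset.sum_empty] at hsum
  have hodd := hs.eq_two_or_odd
  rw [Bool.or_eq_true, Bool.or_eq_true, decide_eq_true_iff] at h1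
  rcases h1 with (h1 | h1) | h1
  · exfalso
    obtain ⟨i, hi⟩ := ne_zero_of H hf0
    rw [beq_iff_eq] at h1
    simp only [List.cons.injEq, decide_eq_false_iff_not, not_not, and_true] at h1
    obtain ⟨a0, a1, a2, a3⟩ := h1
    fin_cases i
    · exact hi a0
    · exact hi a1
    · exact hi a2
    · exact hi a3
  · exfalso
    simp at h1 hsum
    omega
  · exact h1

end

/-! ### the theorems -/

/-- **Elements of prime order in `F₄(q)`.** -/
theorem f4_gen_two {F : Type u} [Field F] [Fintype F] {s : ℕ} (hs : s.Prime) (hsF : (s : F) ≠ 0)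
    {x : ↥(chevF4.group F)} (hx : orderOf x = s) :
    Nat.card ↥(Subgroup.centralizer {x}) ≤ 1152 * (Fintype.card F + 1) ^ 4 * Fintype.card F ^ 32 := by
  have hW : Nat.card CoxeterMatrix.F₄.Group = 1152 :=
    Cfsg.Agent.S1092.result (⟨4, CoxeterMatrix.F₄⟩, 1152) (by simp)
  have h := cent_crude isF4 invC_F4 one_ne_zero (Or.inl rfl) hs hsF (meets_alc isF4 hs.pos) (N := 16) (by
    rintro f ⟨c, c0, H⟩ hf0
    exact psi_le_sixteen isF4 H hf0) hx
  rw [hW] at h
  exact h

/-- **Elements of odd prime order in `F₄(q)`.** -/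
theorem f4_gen {F : Type u} [Field F] [Fintype F] {s : ℕ} (hs : s.Prime) (hs2 : s ≠ 2) (hsF : (s : F) ≠ 0)
    {x : ↥(chevF4.group F)} (hx : orderOf x = s) :
    Nat.card ↥(Subgroup.centralizer {x}) ≤ 1152 * (Fintype.card F + 1) ^ 4 * Fintype.card F ^ 18 := by
  have hW : Nat.card CoxeterMatrix.F₄.Group = 1152 :=
    Cfsg.Agent.S1092.result (⟨4, CoxeterMatrix.F₄⟩, 1152) (by simp)
  have h := cent_crude isF4 invC_F4 one_ne_zero (Or.inl rfl) hs hsF (meets_alc isF4 hs.pos) (N := 9) (by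
    rintro f ⟨c, c0, H⟩ hf0
    exact psi_le_nine isF4 hs hs2 H hf0) hx
  rw [hW] at h
  exact h

/-- **Elements of order divisible by an odd prime in `F₄(q)`.** -/
theorem f4_gen_dvd {F : Type u} [Field F] [Fintype F] {s : ℕ} (hs : s.Prime) (hs2 : s ≠ 2) (hsF : (s : F) ≠ 0)
    {x : ↥(chevF4.group F)} (hx : s ∣ orderOf x) (hx0 : orderOf x ≠ 0) :
    Nat.card ↥(Subgroup.centralizer {x}) ≤ 1152 * (Fintype.card F + 1) ^ 4 * Fintype.card F ^ 18 := by
  obtain ⟨m, hm⟩ := hx
  have hm0 : m ≠ 0 := by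
    rintro rfl
    exact hx0 (by rw [hm, mul_zero])
  have h1 : orderOf (x ^ m) = s := by
    rw [orderOf_pow_of_dvd hm0 (hm ▸ dvd_mul_left m s), hm, Nat.mul_div_cancel _ (Nat.pos_of_ne_zero hm0)]
  have h2 : Subgroup.centralizer {x} ≤ Subgroup.centralizer {x ^ m} := by
    intro y hy
    rw [Subgroup.mem_centralizer_singleton_iff] at hy ⊢
    exact (Commute.pow_right (show Commute y x from hy) m).eq
  have hfin : Finite ↥(chevF4.group F) := Subtype.finite
  exact (Nat.card_le_card_of_injective _ (Subgroup.inclusion_injective h2)).trans (f4_gen hs hs2 hsF h1)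

/-- **Elements of `F₄(q)`, `q` even, that are not `2`-elements.** -/
theorem f4_gen_even {F : Type u} [Field F] [Fintype F] (hF : (2 : F) = 0) {x : ↥(chevF4.group F)}
    (hx : ¬ ∃ n : ℕ, orderOf x = 2 ^ n) :
    Nat.card ↥(Subgroup.centralizer {x}) ≤ 1152 * (Fintype.card F + 1) ^ 4 * Fintype.card F ^ 18 := by
  have hfin : Finite ↥(chevF4.group F) := Subtype.finite
  have hx0 : orderOf x ≠ 0 := (orderOf_pos x).ne'
  obtain ⟨s, hs, hsx, hs2⟩ : ∃ s : ℕ, s.Prime ∧ s ∣ orderOf x ∧ s ≠ 2 := by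
    by_contra h
    push Not at h
    refine hx ⟨(orderOf x).primeFactorsList.length, Nat.eq_prime_pow_of_unique_prime_dvd hx0 fun {d} hd hdx => ?_⟩
    exact h d hd hdx
  have hodd : s % 2 = 1 := (hs.eq_two_or_odd).resolve_left hs2
  refine f4_gen_dvd hs hs2 ?_ hsx hx0
  have h4 : s = 2 * (s / 2) + 1 := by omega
  rw [h4]
  push_cast
  rw [hF, zero_mul, zero_add]
  exact one_ne_zero

end Cfsg.Agent.H972.CS.F4Gen
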