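import Cfsg.Agent.H972.CS.LinkOf

/-!
# The data of the evaluator for the type `F4` (helper972)

* `data4`, `link4` : the data and the link;
* `gok_one` : the lattice map `1`;
* `kac4 s`, `meets4` : the Kac coordinates of degree `s`.
-/

set_option autoImplicit false
set_option linter.unusedSectionVars false

namespace Cfsg.Agent.H972.CS.F4Link

open CoxeterSystem Cfsg Cfsg.Lie Cfsg.Lie.ChevalleyDatum
open Cfsg.Agent.ChevalleyStructure Cfsg.Agent.ChevalleyStructure.Elts Cfsg.Agent.ChevalleyStructure.CoxeterGeom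
  Cfsg.Agent.ChevalleyStructure.CoxeterGeomTypes Cfsg.Agent.ChevalleyStructure.NPerm
open Cfsg.Agent.Tits.Roots Cfsg.Agent.Tits.Core Cfsg.Agent.Nodes Cfsg.Agent.Nodes.Reps Cfsg.Agent.Nodes.BNOf
  Cfsg.Agent.Nodes.RGDChev Cfsg.Agent.H129.TorusChar Cfsg.Agent.H129.TorusMain Cfsg.Agent.H972.CS.Main
  Cfsg.Agent.H972.CS.Torus Cfsg.Agent.H972.CS.Eval Cfsg.Agent.H972.CS.LinkOf

/-- the roots -/
def Rt4 : List (List ℤ) :=
  [[-2, -4, -3, -2], [-2, -4, -3, -1], [-2, -4, -2, -1], [-2, -3, -2, -1], [-2, -2, -2, -1],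
   [-2, -2, -1, -1], [-2, -2, -1, 0], [-1, -3, -2, -1], [-1, -2, -2, -1], [-1, -2, -1, -1], [-1, -2, -1, 0],
   [-1, -1, -1, -1], [-1, -1, -1, 0], [-1, -1, 0, 0], [-1, 0, 0, 0], [0, -2, -2, -1], [0, -2, -1, -1],
   [0, -2, -1, 0], [0, -1, -1, -1], [0, -1, -1, 0], [0, -1, 0, 0], [0, 0, -1, -1], [0, 0, -1, 0],
   [0, 0, 0, -1], [0, 0, 0, 1], [0, 0, 1, 0], [0, 0, 1, 1], [0, 1, 0, 0], [0, 1, 1, 0], [0, 1, 1, 1],
   [0, 2, 1, 0], [0, 2, 1, 1], [0, 2, 2, 1], [1, 0, 0, 0], [1, 1, 0, 0], [1, 1, 1, 0], [1, 1, 1, 1],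
   [1, 2, 1, 0], [1, 2, 1, 1], [1, 2, 2, 1], [1, 3, 2, 1], [2, 2, 1, 0], [2, 2, 1, 1], [2, 2, 2, 1],
   [2, 3, 2, 1], [2, 4, 2, 1], [2, 4, 3, 1], [2, 4, 3, 2]]

/-- the functionals `B x` -/
def G4 : List (List ℤ) :=
  [[0, 0, 0, -2], [0, 0, -2, 2], [0, -2, 2, 0], [-1, 0, 0, 0], [-2, 2, -2, 0], [-2, 0, 2, -2], [-2, 0, 0, 2],
   [1, -1, 0, 0], [0, 1, -2, 0], [0, -1, 2, -2], [0, -1, 0, 2], [-1, 1, 0, -2], [-1, 1, -2, 2],
   [-1, -1, 2, 0], [-2, 1, 0, 0], [2, 0, -2, 0], [2, -2, 2, -2], [2, -2, 0, 2], [1, 0, 0, -2], [1, 0, -2, 2],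
   [1, -2, 2, 0], [0, 2, -2, -2], [0, 2, -4, 2], [0, 0, 2, -4], [0, 0, -2, 4], [0, -2, 4, -2], [0, -2, 2, 2],
   [-1, 2, -2, 0], [-1, 0, 2, -2], [-1, 0, 0, 2], [-2, 2, 0, -2], [-2, 2, -2, 2], [-2, 0, 2, 0],
   [2, -1, 0, 0], [1, 1, -2, 0], [1, -1, 2, -2], [1, -1, 0, 2], [0, 1, 0, -2], [0, 1, -2, 2], [0, -1, 2, 0],
   [-1, 1, 0, 0], [2, 0, 0, -2], [2, 0, -2, 2], [2, -2, 2, 0], [1, 0, 0, 0], [0, 2, -2, 0], [0, 0, 2, -2],
   [0, 0, 0, 2]]

/-- the codes of the roots -/
def Cd4 : List ℤ :=
  [-10763, -5850, -5561, -5544, -5527, -5238, -325, -5543, -5526, -5237, -324, -5220, -307, -18, -1, -5525,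
   -5236, -323, -5219, -306, -17, -5202, -289, -4913, 4913, 289, 5202, 17, 306, 5219, 323, 5236, 5525, 1, 18,
   307, 5220, 324, 5237, 5526, 5543, 325, 5238, 5527, 5544, 5561, 5850, 10763]

/-- the Gram matrix -/
def BL4 : List (List ℤ) :=
  [[2, -1, 0, 0], [-1, 2, -2, 0], [0, -2, 4, -2], [0, 0, -2, 4]]

/-- the pairs of orthogonal roots -/
def O4 : ℕ := 0x22e5a5a74400456ac356a20089b318cd9100001ffff80002165318ca68441a8ac35158281d05a5a0b810e1c07e038702662c18346644aa34422c5528cc38241c331630d8241b0c6a5154422a8a5c918c1831893e0e007e00707387809901e1c54b414282d2a92cc224433497c005a5a003eba00ac35005dd601318c806b554a900952aa933260064cc939870810e19c39870810e19c933260064cc9554a900952aad601318c806bba00ac35005d7c005a5a003e92cc2244334954b414282d2a387809901e1ce0e007e00707c918c1831893a5154422a8a5630d8241b0c68cc38241c3314aa34422c5522662c18346640e1c07e0387081d05a5a0b8141a8ac3515822165318ca6840001ffff8000089b318cd9100456ac356a20022e5a5a7440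

/-- the pairs of roots with product `-1` -/
def P4 : ℕ := 0x7f800000000000000000000000000000000000000002001c07080004080c1888000810142888001020183088002018044308004028084508008030104608010038003808000000000000000000000000000000000000002e00000b80005600001580009a0000268000000000000000000000000000000000000000000000000000000000000000000000000001640000590001a800006a0001d000007400000000000000000000000000000000000000101c001c00801062080c010010a21014020010c220180400110c1804080011142808100011183010200010e03800400000000000000000000000000000000000000001fe00000000000000000000000000000000000000000000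

/-- the pairs of roots with product `-2` -/
def Q4 : ℕ := 0xa58bbe0000014a95dd0000061326eb00000000007f0000c860596b000152806a5d0001a500743e000000038087000000608113000002810225000005020446000040a008310000814010520001060020640001c00040700606006f01830a0a029682850c1205198486020000a580010400014a8002080006130004222448c48911244489289112422852250a218450a44a14424889149122248891231224442000c86000104001528000208001a5000040612198a04830a14169405050c180f60060600e02000380002604006080004a08028100008c1005020000622040a00000a44081400000c88106000000e101c00000007c2e00a58000ba56014a8000d69a06130000fe0000000000d764c8600000bba9528000007dd1a5000000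

/-- the relations -/
def R4 (b : ℤ) : ℕ := if b = 0 then O4 else if b = -1 then P4 else if b = -2 then Q4 else 0

/-- the bilinear form -/
def B4 (i j : Fin 4) : ℤ := (BL4.getD i []).getD j 0

/-- **The data.** -/
def data4 : Data where
  N := 48
  Rt := Rt4
  ev := [1, 17, 289, 4913]
  Cd := Cd4
  rel i j := R4 ((BL4.getD i []).getD j 0)
  cv := [0, 0, 0, 0]
  m := 1

set_option maxRecDepth 1000000 in
theorem all4 : allChk R4 [0, -1, -2] 48 Rt4 G4 0 = true := by decide +kernel

variable {M : CoxeterMatrix (Fin 4)} (hp : IsType chevF4 4 M) {W : Type*} [Group W] (cs : CoxeterSystem M W)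

set_option maxRecDepth 1000000 in
/-- **The link.** -/
theorem link4 : Link data4 hp cs B4 :=
  link_of hp cs data4 B4 G4 R4 [0, -1, -2] (by decide +kernel) (by decide +kernel) (by decide +kernel)
    (by decide +kernel) (by decide +kernel) (by decide +kernel) (by decide +kernel) (by decide +kernel)
    (by decide +kernel) (by decide +kernel) (by decide +kernel) (by decide +kernel) all4 (by decide +kernel)
    (by decide +kernel)

theorem gok_one : GOk data4 hp cs B4 (AddEquiv.refl _) 1 where
  root a ha := ha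
  inv _ _ := rfl
  cv := ⟨0, by rw [one_smul, smul_zero]; exact sub_self _⟩

/-- the tuples with `∑ m_i c_i ≤ n` -/
def tups : List ℕ → ℕ → List (List ℤ)
  | [], _ => [[]]
  | m :: ms, n => (List.range (n + 1)).flatMap fun c =>
      if m * c ≤ n then (tups ms (n - m * c)).map fun t => (c : ℤ) :: t else []

theorem mem_tups : ∀ (ms : List ℕ) (n : ℕ) (t : List ℕ), t.length = ms.length → (∀ m ∈ ms, 0 < m) →
    (List.zipWith (· * ·) ms t).sum ≤ n → t.map (fun c : ℕ => (c : ℤ)) ∈ tups ms n := by
  intro ms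
  induction ms with
  | nil =>
    intro n t ht _ _
    rw [List.length_nil, List.length_eq_zero_iff] at ht
    subst ht
    exact List.mem_singleton_self _
  | cons m ms ih =>
    intro n t ht hm hs
    cases t with
    | nil => simp at ht
    | cons c t =>
      rw [List.zipWith_cons_cons, List.sum_cons] at hs
      have h1 := hm m List.mem_cons_self
      rw [tups, List.mem_flatMap]
      refine ⟨c, List.mem_range.2 ?_, ?_⟩
      · have : c ≤ m * c := Nat.le_mul_of_pos_left c h1
        omega
      · rw [if_pos (by omega), List.map_cons, List.mem_map]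
        refine ⟨_, ih (n - m * c) t (by simpa using ht) (fun m' h => hm m' (List.mem_cons_of_mem _ h)) (by omega), rfl⟩

/-- the Kac coordinates of degree `s` (without `c0`) -/
def kac4 (s : ℕ) : List (List ℤ) := tups [2, 4, 3, 2] s

theorem kac_length {s : ℕ} {fl : List ℤ} (h : fl ∈ kac4 s) : fl.length = 4 := by
  have key : ∀ (ms : List ℕ) (n : ℕ) (t : List ℤ), t ∈ tups ms n → t.length = ms.length := by
    intro ms
    induction ms with
    | nil =>
      intro n t ht
      rw [tups, List.mem_singleton] at ht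
      rw [ht]; rfl
    | cons m ms ih =>
      intro n t ht
      rw [tups, List.mem_flatMap] at ht
      obtain ⟨c, -, hc⟩ := ht
      split_ifs at hc with h1
      · rw [List.mem_map] at hc
        obtain ⟨t', ht', rfl⟩ := hc
        rw [List.length_cons, List.length_cons, ih _ _ ht']
      · simp at hc
  exact key _ _ _ h

set_option maxRecDepth 1000000 in
theorem hr4 : ∀ i : Fin 4, Cfsg.Agent.H931.KC.hr chevF4 4 i = (([2, 4, 3, 2] : List ℤ).getD i 0) := by decide +kernel

/-- **The Kac coordinates meet all orbits.** -/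
theorem meets4 (hp : IsType chevF4 4 M) {s : ℕ} (hs : 0 < s) :
    Meets hp M.toCoxeterSystem (RfL 4 s (kac4 s)) := by
  refine meets_alcove hp hs _ fun c c0 hK => ?_
  refine ⟨(List.ofFn c).map (fun c : ℕ => (c : ℤ)), mem_tups _ _ _ (by simp) (by decide) ?_, fun i => ?_⟩
  · have h1 := hK.sum
    simp only [hr4] at h1
    simp only [List.ofFn_succ, List.ofFn_zero, List.zipWith_cons_cons, List.zipWith_nil_left, List.sum_cons, List.sum_nil]
    simp only [Fin.sum_univ_succ, Finset.univ_eq_empty, Finset.sum_empty] at h1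
    simp at h1 ⊢
    omega
  · fin_cases i <;> simp [List.ofFn_succ]

end Cfsg.Agent.H972.CS.F4Link
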