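import Cfsg.Agent.H720.TorusReal

/-!
# Centralisers of semisimple elements: the adjusted frame (helper972)

`Y = D.group k`, `k` algebraically closed, `σ` a Frobenius frame automorphism of `Y`.

* `inf_eq`, `mem_peel` : unique factorisation in `Y`;
* `mem_cent` : the normal form of an element commuting with `t ∈ T`;
* `exists_frame` : every `p'`-element `x` of `Y^σ` is `z t z⁻¹`, `z⁻¹ σ(z)` a representative of `w`, `w g` preserves
  the positive roots of `t`.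
-/

set_option autoImplicit false
set_option linter.unusedSectionVars false

namespace Cfsg.Agent.H972.CS

open CoxeterSystem Cfsg Cfsg.Lie Cfsg.Lie.ChevalleyDatum
open Cfsg.Agent.ChevalleyStructure Cfsg.Agent.ChevalleyStructure.Elts Cfsg.Agent.ChevalleyStructure.CoxeterGeom
  Cfsg.Agent.ChevalleyStructure.CoxeterGeomTypes Cfsg.Agent.ChevalleyStructure.NPerm
open Cfsg.Agent.Tits.Roots Cfsg.Agent.Tits.Core Cfsg.Agent.Nodes Cfsg.Agent.Nodes.Reps Cfsg.Agent.Nodes.BNOf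
  Cfsg.Agent.Nodes.RGDChev Cfsg.Agent.Nodes.Bruhat Cfsg.Agent.Nodes.SubComb Cfsg.Agent.Nodes.Coroot
open Cfsg.Agent.KFacts.RgdField Cfsg.Agent.KFacts.RgdChevCoord Cfsg.Agent.BpExc.TorCent Cfsg.Agent.BpExc.TorChev
open Cfsg.Agent.GpExc.Field Cfsg.Agent.BpExc.Tow Cfsg.Agent.BpExc.TowChev Cfsg.Agent.BpExc.Fr
  Cfsg.Agent.BpExc.LangFr Cfsg.Agent.LangThm Cfsg.Agent.BpExc Cfsg.Agent.H129.TorusChar Cfsg.Agent.H129.TorusCent
  Cfsg.Agent.H129.TorusTw Cfsg.Agent.H129.TorusMain Cfsg.Agent.H720.TorusReal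

universe u

/-! ### unique factorisation in the union -/

section Lim

variable {I W Y : Type*} [Fintype I] [DecidableEq I] [Group W] [Group Y] {M : CoxeterMatrix I}
  {cs : CoxeterSystem M W} {A : I → I → ℤ} {h : IsCartan M A} {p : ℕ}
variable {J : Type*} [Preorder J] {T : J → Subgroup Y} {n : I → Y} {X : J → (I → ℤ) → Subgroup Y}
  (H : Tow cs h p T n X)

include H

theorem inf_eq [Finite W] {S S' : Set (I → ℤ)} (hS : S ⊆ RGD.Pos cs h) (hS' : S' ⊆ RGD.Pos cs h)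
    (hc : Unique.Closed cs h S) (hc' : Unique.Closed cs h S') :
    RGD.Sup (XL X) S ⊓ RGD.Sup (XL X) S' = RGD.Sup (XL X) (S ∩ S') := by
  apply le_antisymm
  · rintro y ⟨h1, h2⟩
    obtain ⟨i, hi⟩ := H.mem_Sup.1 h1
    obtain ⟨j, hj⟩ := H.mem_Sup.1 h2
    obtain ⟨c, c1, c2⟩ := H.dir i j
    have h3 : y ∈ RGD.Sup (X c) S ⊓ RGD.Sup (X c) S' := ⟨H.mono_Sup _ c1 hi, H.mono_Sup _ c2 hj⟩
    rw [Unique.inf_eq (H.rgd c) hS hS' hc hc'] at h3
    exact Sup_le_SupL c _ h3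
  · exact le_inf (RGD.Sup_mono Set.inter_subset_left) (RGD.Sup_mono Set.inter_subset_right)

theorem mem_peel [Finite W] {S : Set (I → ℤ)} (hS : S ⊆ RGD.Pos cs h) (hc : Unique.Closed cs h S) {x : I → ℤ}
    (hx : x ∈ S) {g : Y} (hg : g ∈ RGD.Sup (XL X) S) :
    ∃ a ∈ XL X x, ∃ b ∈ RGD.Sup (XL X) (S \ {x}), g = a * b := by
  obtain ⟨j, hj⟩ := H.mem_Sup.1 hg
  obtain ⟨a, ha, b, hb, e⟩ := (Unique.mem_peel (H.rgd j) hS hc hx).1 hj
  exact ⟨a, le_XL j x ha, b, Sup_le_SupL j _ hb, e⟩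

/-- uniqueness of the first factor -/
theorem peel_unique [Finite W] {S : Set (I → ℤ)} (hS : S ⊆ RGD.Pos cs h) {x : I → ℤ}
    (hx : x ∈ S) (hc' : Unique.Closed cs h (S \ {x})) {a a' b b' : Y} (ha : a ∈ XL X x) (ha' : a' ∈ XL X x)
    (hb : b ∈ RGD.Sup (XL X) (S \ {x})) (hb' : b' ∈ RGD.Sup (XL X) (S \ {x})) (e : a * b = a' * b') : a = a' := by
  have h1 : a'⁻¹ * a = b' * b⁻¹ := by
    have h3 : a'⁻¹ * a = a'⁻¹ * (a * b) * b⁻¹ := by group
    rw [h3, e]; group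
  have h0 : Unique.Closed cs h {x} := by
    intro y hy z hz u hu
    rw [Set.mem_singleton_iff] at hy hz
    subst hy hz
    exact Unique.btwn_self (hS hx).1 hu
  have h2 : a'⁻¹ * a ∈ RGD.Sup (XL X) {x} ⊓ RGD.Sup (XL X) (S \ {x}) := by
    refine ⟨RGD.le_Sup (Set.mem_singleton x) (mul_mem (inv_mem ha') ha), ?_⟩
    rw [h1]
    exact (RGD.Sup (XL X) (S \ {x})).mul_mem hb' ((RGD.Sup (XL X) (S \ {x})).inv_mem hb)
  rw [inf_eq H (Set.singleton_subset_iff.2 (hS hx)) (Set.sdiff_subset.trans hS) h0 hc'] at h2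
  have h3 : ({x} ∩ (S \ {x}) : Set (I → ℤ)) = ∅ := by
    ext y
    simp only [Set.mem_inter_iff, Set.mem_singleton_iff, Set.mem_sdiff, Set.mem_empty_iff_false, iff_false, not_and]
    rintro rfl _
    simp
  rw [h3] at h2
  have h4 : RGD.Sup (XL X) (∅ : Set (I → ℤ)) = ⊥ := by
    rw [eq_bot_iff]
    exact RGD.Sup_le fun z hz => absurd hz (Set.notMem_empty z)
  rw [h4, Subgroup.mem_bot] at h2
  exact (inv_mul_eq_one.1 h2).symm

omit H in
/-- a nonempty closed set of positive roots has an extremal element -/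
theorem exists_extremal [Finite W] : ∀ (m : ℕ) (w : W) {S : Set (I → ℤ)}, (Unique.Fut cs h w).ncard = m →
    S ⊆ Unique.Fut cs h w → Unique.Closed cs h S → S.Nonempty → ∃ x ∈ S, Unique.Closed cs h (S \ {x}) := by
  intro m
  induction m with
  | zero =>
    intro w S hn hS _ hne
    have h1 := (Set.ncard_eq_zero (Unique.finite_fut w)).1 hn
    rw [h1, Set.subset_empty_iff] at hS
    exact absurd hS hne.ne_empty
  | succ m ih =>
    intro w S hn hS hc hne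
    obtain ⟨y, hy⟩ := hne
    obtain ⟨i, hi⟩ := Unique.exists_simple (hS hy)
    by_cases hx : rep cs h w (sr i) ∈ S
    · exact ⟨_, hx, Unique.closed_diff hi hS hc⟩
    · refine ih (w * cs.simple i) ?_ ?_ hc ⟨y, hy⟩
      · rw [Unique.fut_mul hi, Set.ncard_sdiff_singleton_of_mem (Unique.mem_fut hi), hn]
        rfl
      · rw [Unique.fut_mul hi]
        intro z hz
        refine ⟨hS hz, ?_⟩
        rintro rfl
        exact hx hz

/-- **The normal form of an element commuting with `t ∈ T`.** -/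
theorem mem_cent [Finite W] {F : Type*} [Field F] {xx : (I → ℤ) → F → Y} {χ : (I → ℤ) → Y → F}
    (C : Coords cs h (TL T) n (XL X) xx χ) {t : Y} (ht : t ∈ TL T)
    (hcl : Unique.Closed cs h {a | a ∈ Sx cs h χ t ∧ 0 ≤ a}) {c : Y} (hc : c ∈ GG cs h (TL T) (XL X))
    (e : c * t = t * c) :
    ∃ w, ∃ u ∈ RGD.Sup (XL X) {a | a ∈ Sx cs h χ t ∧ 0 ≤ a}, ∃ k, Rp cs H.nsys w k ∧ k * t = t * k ∧
      ∃ v ∈ RGD.Sup (XL X) {a | a ∈ Sx cs h χ t ∧ 0 ≤ a ∧ rep cs h w a ≤ 0}, c = u * k * v := by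
  obtain ⟨j1, h1⟩ := H.mem_TL.1 ht
  obtain ⟨j3, h3⟩ := H.mem_GG.1 hc
  obtain ⟨j, b1, b2⟩ := H.dir j1 j3
  have ht' := H.monoT b1 h1
  have hc' := H.mono_GG b2 h3
  obtain ⟨w, hw⟩ := (Cfsg.Agent.Nodes.Bruhat.mem_GG (H.rgd j)).1 hc'
  obtain ⟨u, hu, k, hk, v, hv, rfl⟩ := Cfsg.Agent.Nodes.NormalForm.exists_normal_form (H.rgd j) hw
  obtain ⟨e1, e2, e3⟩ := conj_form' (H.rgd j) ht' ht' hu hk hv e
  have hle : ∀ {y : Y}, y ∈ RGD.Sup (X j) (RGD.Pos cs h) → t * y = y * t →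
      y ∈ RGD.Sup (XL X) {a | a ∈ Sx cs h χ t ∧ 0 ≤ a} := by
    intro y hy hty
    have h5 : y ∈ RGD.Sup (X j) (RGD.Pos cs h) ⊓ Subgroup.centralizer {t} :=
      ⟨hy, Subgroup.mem_centralizer_singleton_iff.2 hty.symm⟩
    rw [Cfsg.Agent.Nodes.NormalForm.centralizer_U (H.rgd j) (Set.singleton_subset_iff.2 ht')] at h5
    have h6 : RGD.Sup (fun x => X j x ⊓ Subgroup.centralizer {t}) (RGD.Pos cs h) ≤
        RGD.Sup (XL X) {a | a ∈ Sx cs h χ t ∧ 0 ≤ a} := by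
      refine RGD.Sup_le fun a ha => ?_
      rintro y ⟨hy, hyc⟩
      by_cases h1 : y = 1
      · rw [h1]; exact one_mem _
      · exact RGD.le_Sup (S := {a | a ∈ Sx cs h χ t ∧ 0 ≤ a})
          ⟨mem_Sx_of_centralizer C ht ha.1 (le_XL j a hy) h1 hyc, ha.2⟩ (le_XL j a hy)
    exact h6 h5
  have hv' : v ∈ RGD.Sup (X j) (RGD.Pos cs h) :=
    RGD.Sup_mono (S := Cfsg.Agent.Nodes.NormalForm.NW cs h w) (S' := RGD.Pos cs h) (fun x hx => ⟨hx.1, hx.2.1⟩) hv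
  refine ⟨w, u, hle hu e1, k, H.rp_up hk, e2, v, ?_, rfl⟩
  have h7 : v ∈ RGD.Sup (XL X) (Cfsg.Agent.Nodes.NormalForm.NW cs h w) ⊓
      RGD.Sup (XL X) {a | a ∈ Sx cs h χ t ∧ 0 ≤ a} := ⟨Sup_le_SupL j _ hv, hle hv' e3⟩
  rw [inf_eq H (S := Cfsg.Agent.Nodes.NormalForm.NW cs h w) (fun x hx => ⟨hx.1, hx.2.1⟩)
    (fun x hx => ⟨hx.1.1, hx.2⟩) ?_ hcl] at h7
  · refine RGD.Sup_mono ?_ h7
    rintro a ⟨h8, h9⟩
    exact ⟨h9.1, h9.2, h8.2.2⟩
  · intro x hx y hy z hz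
    refine ⟨hz.1, Unique.closed_pos x ⟨hx.1, hx.2.1⟩ y ⟨hy.1, hy.2.1⟩ z hz |>.2, ?_⟩
    have h8 : 0 ≤ rep cs h w (-x) := by rw [map_neg]; exact neg_nonneg.2 hx.2.2
    have h9 : 0 ≤ rep cs h w (-y) := by rw [map_neg]; exact neg_nonneg.2 hy.2.2
    obtain ⟨hz1, m, a, b, hm, ha, hb, he⟩ := hz
    have h10 : m • rep cs h w z = a • rep cs h w x + b • rep cs h w y := by
      rw [← map_zsmul, he, map_add, map_zsmul, map_zsmul]
    intro i
    have h11 := congrFun h10 i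
    rw [Pi.smul_apply, Pi.add_apply, Pi.smul_apply, Pi.smul_apply, smul_eq_mul, smul_eq_mul, smul_eq_mul] at h11
    have h12 := hx.2.2 i
    have h13 := hy.2.2 i
    rw [Pi.zero_apply] at h12 h13 ⊢
    by_contra hcon
    push Not at hcon
    nlinarith [mul_pos hm hcon, mul_nonneg ha.le (neg_nonneg.2 h12), mul_nonneg hb.le (neg_nonneg.2 h13)]

end Lim

/-! ### the adjusted frame -/

section Frame

variable {D : ChevalleyDatum} {l : ℕ} {M : CoxeterMatrix (Fin l)} (hp : IsType D l M) {k : Type u} [Field k]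
  {W : Type*} [Group W] (cs : CoxeterSystem M W) {p e : ℕ} [Fact p.Prime] [CharP k p] {σ : MulAut ↥(D.group k)}
  {g : (Fin l → ℤ) ≃+ (Fin l → ℤ)}

/-- The group generated by the root groups commuting with `t`. -/
noncomputable abbrev MMt (t : ↥(D.group k)) : Subgroup ↥(D.group k) := MM cs hp.isCartan (XX D l k) (ch hp) t

theorem T_norm_MMt (hk : LocFin k) (p : ℕ) [Fact p.Prime] [CharP k p] (t : ↥(D.group k)) :
    TT D k ≤ Subgroup.normalizer (MMt hp cs t : Set ↥(D.group k)) := by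
  have H := tow hp cs hk p
  have h1 := H.T_le_normalizer (S := Sx cs hp.isCartan (ch hp) t) (fun _ ha => ha.1)
  rw [TL_eq hp hk, XL_eq hp hk] at h1
  exact h1

theorem MT_comm (hk : LocFin k) (p : ℕ) [Fact p.Prime] [CharP k p] {t : ↥(D.group k)} (ht : t ∈ TT D k)
    {y : ↥(D.group k)} (hy : y ∈ MMt hp cs t ⊔ TT D k) : y * t = t * y := by
  have C := coordsL hp cs hk p
  have h1 : MMt hp cs t ⊔ TT D k ≤ Subgroup.centralizer {t} := by
    refine sup_le (MM_le_centralizer C ht) fun s hs => ?_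
    exact Subgroup.mem_centralizer_singleton_iff.2 (TT_comm hp hs ht)
  exact Subgroup.mem_centralizer_singleton_iff.1 (h1 hy)

/-- **Lang's theorem for `MM t · T`.** -/
theorem lang_MT [IsAlgClosed k] [Finite W] (hk : LocFin k) (he : 0 < e) (hσ : IsFrob p e σ)
    (F : Fr cs hp.isCartan (TT D k) (XX D l k) σ g) {d' : ℕ} {B' : Fin l → Fin l → ℤ} (hB : InvC D l d' B')
    (hd' : d' ≠ 0) {t : ↥(D.group k)} (hS : ∀ a ∈ Sx cs hp.isCartan (ch hp) t, g a ∈ Sx cs hp.isCartan (ch hp) t)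
    {m : ↥(D.group k)} (hm : m ∈ MMt hp cs t ⊔ TT D k) : ∃ y ∈ MMt hp cs t ⊔ TT D k, m = y⁻¹ * σ y := by
  have hnorm := T_norm_MMt hp cs hk p t
  have h1 : m ∈ ((MMt hp cs t ⊔ TT D k : Subgroup ↥(D.group k)) : Set ↥(D.group k)) := hm
  rw [Subgroup.coe_mul_of_right_le_normalizer_left _ _ hnorm, Set.mem_mul] at h1
  obtain ⟨m₁, hm₁, s, hs, rfl⟩ := h1
  obtain ⟨s', hs', e1⟩ := torus_lang hp cs he hσ F hB hd' (c := s⁻¹) (inv_mem hs)
  have hσs : σ s' ∈ TT D k := (F.tor s').2 hs'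
  have e2 : s = s'⁻¹ * σ s' := by
    have h2 : s * s' = σ s' := by rw [e1, mul_inv_cancel_left, ← e1]
    rw [← h2, TT_comm hp hs hs']; group
  have hm₂ : s' * m₁ * s'⁻¹ ∈ MMt hp cs t := (Subgroup.mem_normalizer_iff.1 (hnorm hs') m₁).1 hm₁
  obtain ⟨y₁, hy₁, e3⟩ := lang_fr hp cs he hσ F (S := Sx cs hp.isCartan (ch hp) t) (fun _ ha => ha.1) hS hm₂
  refine ⟨y₁ * s', mul_mem (Subgroup.mem_sup_left hy₁) (Subgroup.mem_sup_right hs'), ?_⟩
  rw [map_mul, mul_inv_rev]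
  have e4 : m₁ = s'⁻¹ * (y₁⁻¹ * σ y₁) * s' := by rw [← e3]; group
  rw [e4]
  calc s'⁻¹ * (y₁⁻¹ * σ y₁) * s' * s = s'⁻¹ * (y₁⁻¹ * σ y₁) * s' * (s'⁻¹ * σ s') := by rw [← e2]
    _ = _ := by group

/-- the reflections of `Sx t` have representatives in `MM t · T` -/
theorem exists_refl_MT [Finite W] (hk : LocFin k) (p : ℕ) [Fact p.Prime] [CharP k p]
    (hN : NSys M (TT D k) (nc hp k)) {t : ↥(D.group k)} (ht : t ∈ TT D k) {a : Fin l → ℤ}
    (ha : a ∈ Sx cs hp.isCartan (ch hp) t) :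
    ∃ w i, a = rep cs hp.isCartan w (sr i) ∧ ∃ m ∈ MMt hp cs t ⊔ TT D k, Rp cs hN (rfl' cs w i) m := by
  have H := tow hp cs hk p
  have C := coordsL hp cs hk p
  obtain ⟨⟨w, i, hw⟩, h2⟩ := id ha
  refine ⟨w, i, hw, ?_⟩
  obtain ⟨j⟩ := H.ne
  obtain ⟨m, hm, hm'⟩ := exists_rfl (H.rgd j) w i
  have hm1 := H.rp_up hm'
  refine ⟨m, ?_, ?_⟩
  · have h3 : Tj hp j ≤ TT D k := by
      rw [← TL_eq hp hk]; exact le_TL j
    have h4 : ∀ b, Xj hp j b ≤ XX D l k b := fun b => by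
      rw [← XL_eq hp hk]; exact le_XL j b
    have hA : -a ∈ Sx cs hp.isCartan (ch hp) t := by
      refine ⟨ha.1.neg, ?_⟩
      rw [← cX_root hp cs ht ha.1.neg, (isMC_cX hp ht).neg, cX_root hp cs ht ha.1, h2, inv_one]
    rw [← hw] at hm
    have h5 : Tj hp j ⊔ (Xj hp j a ⊔ Xj hp j (-a)) ≤ MMt hp cs t ⊔ TT D k :=
      sup_le (le_trans h3 le_sup_right) (sup_le
        (le_trans (h4 a) (le_trans (RGD.le_Sup (S := Sx cs hp.isCartan (ch hp) t) ha) le_sup_left))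
        (le_trans (h4 _) (le_trans (RGD.le_Sup (S := Sx cs hp.isCartan (ch hp) t) hA) le_sup_left)))
    exact h5 hm
  · have key : ∀ (T : Subgroup ↥(D.group k)) (h1 : NSys M T (nc hp k)) (h2 : T = TT D k),
        Rp cs h1 (rfl' cs w i) m → Rp cs hN (rfl' cs w i) m := by
      intro T h1 h2 h3
      subst h2
      exact h3
    exact key _ _ (TL_eq hp hk) hm1

/-- **The adjusted frame.** -/
theorem frame_of [IsAlgClosed k] [Finite W] (hk : LocFin k) (he : 0 < e) (hσ : IsFrob p e σ)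
    (F : Fr cs hp.isCartan (TT D k) (XX D l k) σ g) {d' : ℕ} {B' : Fin l → Fin l → ℤ} (hB : InvC D l d' B')
    (hd' : d' ≠ 0) (hN : NSys M (TT D k) (nc hp k)) {x z₀ t : ↥(D.group k)} (hx : σ x = x) (ht : t ∈ TT D k)
    (e0 : x = z₀ * t * z₀⁻¹) :
    ∃ (z n : ↥(D.group k)) (w : W), x = z * t * z⁻¹ ∧ n = z⁻¹ * σ z ∧ Rp cs hN w n ∧ n * σ t * n⁻¹ = t ∧
      ∀ a ∈ Sx cs hp.isCartan (ch hp) t, 0 ≤ a → 0 ≤ theta hp cs w g a := by
  have H := tow hp cs hk p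
  have C := coordsL hp cs hk p
  have C' := C
  rw [← TL_eq hp hk, ← XL_eq hp hk] at C'
  have hσt : σ t ∈ TT D k := (F.tor t).2 ht
  have ht' : t ∈ TL (Tj hp (k := k)) := by rw [TL_eq hp hk]; exact ht
  have hσt' : σ t ∈ TL (Tj hp (k := k)) := by rw [TL_eq hp hk]; exact hσt
  have hcG : z₀⁻¹ * σ z₀ ∈ GG cs hp.isCartan (TL (Tj hp (k := k))) (XL (Xj hp)) := by
    rw [GG_eq_top hp cs hk]; exact Subgroup.mem_top _
  have h1 : (z₀⁻¹ * σ z₀) * σ t = t * (z₀⁻¹ * σ z₀) := by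
    have h2 : σ z₀ * σ t * (σ z₀)⁻¹ = z₀ * t * z₀⁻¹ := by
      rw [← map_inv, ← map_mul, ← map_mul, ← e0, hx, e0]
    have h3 : σ z₀ * σ t = z₀ * t * z₀⁻¹ * σ z₀ := by rw [← h2]; group
    rw [mul_assoc, h3]; group
  obtain ⟨m, hm, w, kk, hk0, hks, hc⟩ := BpExc.Fr.exists_form H C' hσt' ht' hcG h1
  have hkN : Rp cs hN w kk := by
    have key : ∀ (T : Subgroup ↥(D.group k)) (h1 : NSys M T (nc hp k)) (h2 : T = TT D k),
        Rp cs h1 w kk → Rp cs hN w kk := by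
      intro T h1 h2 h3
      subst h2
      exact h3
    exact key _ _ (TL_eq hp hk) hk0
  have hm' : m ∈ MMt hp cs t := by
    have h4 := hm
    rw [XL_eq hp hk] at h4
    exact h4
  -- the twisted frame automorphism attached to a representative
  have hfr : ∀ {w : W} {n : ↥(D.group k)}, Rp cs hN w n → n * σ t * n⁻¹ = t →
      (∀ a, rep cs hp.isCartan w (g a) ∈ Sx cs hp.isCartan (ch hp) t ↔ a ∈ Sx cs hp.isCartan (ch hp) t) := by
    intro w n hn hnt a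
    have F1 : Fr cs hp.isCartan (TT D k) (XX D l k) (MulAut.conj n * σ) (g.trans (repAut cs hp.isCartan w)) :=
      (fr_conj hp cs hk p hn).mul F
    have F1' := F1
    rw [← TL_eq hp hk, ← XL_eq hp hk] at F1'
    exact F1'.mem_Sx C' ht' hnt a
  have hkt : kk * σ t * kk⁻¹ = t := by rw [hks]; group
  -- adjust
  let V : Subgroup W :=
    { carrier := {v | ∃ m ∈ MMt hp cs t ⊔ TT D k, Rp cs hN v m}
      one_mem' := ⟨1, one_mem _, rp_one⟩
      mul_mem' := by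
        rintro a b ⟨m, hm, hm'⟩ ⟨m', hm1, hm2⟩
        exact ⟨m * m', mul_mem hm hm1, hm'.mul hm2⟩
      inv_mem' := by
        rintro a ⟨m, hm, hm'⟩
        exact ⟨m⁻¹, inv_mem hm, hm'.inv⟩ }
  have hV : ∀ a ∈ Sx cs hp.isCartan (ch hp) t, ∃ w i, a = rep cs hp.isCartan w (sr i) ∧ rfl' cs w i ∈ V :=
    fun a ha => exists_refl_MT hp cs hk p hN ht ha
  let θ : (Fin l → ℤ) ≃+ (Fin l → ℤ) := g.trans (repAut cs hp.isCartan w)
  have hθr : ∀ a, IsRoot cs hp.isCartan (θ a) ↔ IsRoot cs hp.isCartan a :=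
    ((fr_conj hp cs hk p hkN).mul F).root
  obtain ⟨v, ⟨mv, hmv, hmv'⟩, hv⟩ := BpExc.Fr.exists_adjust (cs := cs) (h := hp.isCartan)
    (Sx cs hp.isCartan (ch hp) t) V hV θ.symm (fun a ha => by
      rw [← hθr, AddEquiv.apply_symm_apply]; exact ha)
  have hvS : ∀ a, a ∈ Sx cs hp.isCartan (ch hp) t → rep cs hp.isCartan v a ∈ Sx cs hp.isCartan (ch hp) t := by
    intro a ha
    refine ⟨ha.1.act v, ?_⟩
    have h2 := MT_comm hp cs hk p ht hmv
    have h3 : mv * t * mv⁻¹ = t := by rw [h2]; group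
    rw [← cX_root hp cs ht (ha.1.act v)]
    have h4 := cX_rp hp cs hk p hmv' ht a
    rw [h3] at h4
    rw [h4, cX_root hp cs ht ha.1, ha.2]
  have hvS' : ∀ a, a ∈ Sx cs hp.isCartan (ch hp) t → rep cs hp.isCartan v⁻¹ a ∈ Sx cs hp.isCartan (ch hp) t := by
    intro a ha
    refine ⟨ha.1.act v⁻¹, ?_⟩
    have h2 := MT_comm hp cs hk p ht (inv_mem hmv)
    have h3 : mv⁻¹ * t * mv⁻¹⁻¹ = t := by rw [h2]; group
    rw [← cX_root hp cs ht (ha.1.act v⁻¹)]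
    have h4 := cX_rp hp cs hk p hmv'.inv ht a
    rw [h3] at h4
    rw [h4, cX_root hp cs ht ha.1, ha.2]
  -- the new representative
  have hkk : Rp cs hN (v⁻¹ * w) (mv⁻¹ * kk) := hmv'.inv.mul hkN
  have hkkt : mv⁻¹ * kk * σ t * (mv⁻¹ * kk)⁻¹ = t := by
    have h2 := MT_comm hp cs hk p ht (inv_mem hmv)
    calc mv⁻¹ * kk * σ t * (mv⁻¹ * kk)⁻¹ = mv⁻¹ * (kk * σ t * kk⁻¹) * mv := by group
      _ = mv⁻¹ * t * mv := by rw [hkt]
      _ = t := by rw [h2]; group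
  have hpos : ∀ a ∈ Sx cs hp.isCartan (ch hp) t, 0 ≤ a → 0 ≤ theta hp cs (v⁻¹ * w) g a := by
    intro a ha h0
    rw [theta_apply, rep_mul_apply]
    set b := rep cs hp.isCartan v⁻¹ (rep cs hp.isCartan w (g a)) with hb
    have hbS : b ∈ Sx cs hp.isCartan (ch hp) t := hvS' _ ((hfr hkN hkt a).2 ha)
    rcases hbS.1.pos_or_neg with h6 | h6
    · exact h6
    · exfalso
      have hnb : -b ∈ Sx cs hp.isCartan (ch hp) t := by
        refine ⟨hbS.1.neg, ?_⟩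
        rw [← cX_root hp cs ht hbS.1.neg, (isMC_cX hp ht).neg, cX_root hp cs ht hbS.1, hbS.2, inv_one]
      have h7 := hv (-b) hnb (neg_nonneg.2 h6)
      have h8 : θ.symm (rep cs hp.isCartan v (-b)) = -a := by
        rw [map_neg, map_neg, hb, rep_apply_inv]
        congr 1
        have h9 : θ a = rep cs hp.isCartan w (g a) := rfl
        rw [← h9, AddEquiv.symm_apply_apply]
      rw [h8] at h7
      exact ha.1.not_pos_neg h0 (neg_nonneg.1 h7)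
  have Fτ : Fr cs hp.isCartan (TT D k) (XX D l k) (MulAut.conj (mv⁻¹ * kk) * σ)
      (g.trans (repAut cs hp.isCartan (v⁻¹ * w))) := (fr_conj hp cs hk p hkk).mul F
  have hτσ : IsFrob p e (MulAut.conj (mv⁻¹ * kk) * σ) := hσ.conj_mul _
  obtain ⟨y, hy, ey⟩ := lang_MT hp cs hk he hτσ Fτ hB hd' (t := t)
    (fun a ha => (hfr hkk hkkt a).2 ha) (m := m * mv) (mul_mem (Subgroup.mem_sup_left hm') hmv)
  have hyt := MT_comm hp cs hk p ht hy
  refine ⟨z₀ * y⁻¹, mv⁻¹ * kk, v⁻¹ * w, ?_, ?_, hkk, hkkt, hpos⟩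
  · have h2 : y⁻¹ * t * y = t := by rw [mul_assoc, ← hyt]; group
    calc x = z₀ * t * z₀⁻¹ := e0
      _ = z₀ * (y⁻¹ * t * y) * z₀⁻¹ := by rw [h2]
      _ = _ := by group
  · have h2 : (MulAut.conj (mv⁻¹ * kk) * σ) y = mv⁻¹ * kk * σ y * (mv⁻¹ * kk)⁻¹ := rfl
    rw [h2] at ey
    rw [map_mul, map_inv]
    have h3 : z₀⁻¹ * σ z₀ = m * kk := hc
    calc mv⁻¹ * kk = y * (y⁻¹ * (mv⁻¹ * kk * σ y * (mv⁻¹ * kk)⁻¹)) * (mv⁻¹ * kk) * (σ y)⁻¹ := by group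
      _ = y * (m * mv) * (mv⁻¹ * kk) * (σ y)⁻¹ := by rw [← ey]
      _ = y * (m * kk) * (σ y)⁻¹ := by group
      _ = y * (z₀⁻¹ * σ z₀) * (σ y)⁻¹ := by rw [h3]
      _ = _ := by group

end Frame

end Cfsg.Agent.H972.CS
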