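import Cfsg.Agent.H972.CS.Eval
import Cfsg.Agent.H931.KC.Alcove

/-!
# The link of the evaluator with the group (helper972)

* `link_of` : `Link` from kernel checks;
* `meets_alcove` : the orbit representatives of the `f : ℤ^l →+ ZMod s` from the alcove.
-/

set_option autoImplicit false
set_option linter.unusedSectionVars false

namespace Cfsg.Agent.H972.CS.LinkOf

open CoxeterSystem Cfsg Cfsg.Lie Cfsg.Lie.ChevalleyDatum
open Cfsg.Agent.ChevalleyStructure Cfsg.Agent.ChevalleyStructure.Elts Cfsg.Agent.ChevalleyStructure.CoxeterGeom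
  Cfsg.Agent.ChevalleyStructure.CoxeterGeomTypes Cfsg.Agent.ChevalleyStructure.NPerm
open Cfsg.Agent.Tits.Roots Cfsg.Agent.Tits.Core Cfsg.Agent.Nodes Cfsg.Agent.Nodes.Reps Cfsg.Agent.Nodes.BNOf
  Cfsg.Agent.Nodes.RGDChev Cfsg.Agent.H129.TorusChar Cfsg.Agent.H129.TorusMain Cfsg.Agent.H972.CS.Main
  Cfsg.Agent.H972.CS.Torus Cfsg.Agent.H972.CS.Eval

/-- one row of the relation check -/
def rowChk (R : ℤ → ℕ) (vals : List ℤ) (N r : ℕ) (Gr : List ℤ) : List (List ℤ) → ℕ → Bool
  | [], _ => true
  | X :: Xs, s => (!(vals.contains (dot Gr X)) || (R (dot Gr X)).testBit (N * s + r)) && rowChk R vals N r Gr Xs (s + 1)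

theorem rowChk_sound {R : ℤ → ℕ} {vals : List ℤ} {N r : ℕ} {Gr : List ℤ} {Xs : List (List ℤ)} {s0 : ℕ}
    (h : rowChk R vals N r Gr Xs s0 = true) (s : ℕ) (hs : s < Xs.length) (hb : dot Gr (Xs.getD s []) ∈ vals) :
    (R (dot Gr (Xs.getD s []))).testBit (N * (s0 + s) + r) = true := by
  induction Xs generalizing s0 s with
  | nil => simp at hs
  | cons X Xs ih =>
    rw [rowChk, Bool.and_eq_true] at h
    cases s with
    | zero =>
      have h1 : (X :: Xs).getD 0 [] = X := rfl
      rw [h1] at hb ⊢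
      have h2 := h.1
      rw [Bool.or_eq_true] at h2
      rcases h2 with h2 | h2
      · rw [Bool.not_eq_true', ← Bool.not_eq_true, List.contains_iff_mem] at h2
        exact absurd hb h2
      · exact h2
    | succ s =>
      have h1 : (X :: Xs).getD (s + 1) [] = Xs.getD s [] := rfl
      rw [h1] at hb ⊢
      have h3 := ih h.2 s (by simpa using hs) hb
      rwa [show s0 + (s + 1) = s0 + 1 + s by ring]

/-- the relation check -/
def allChk (R : ℤ → ℕ) (vals : List ℤ) (N : ℕ) (Rt : List (List ℤ)) : List (List ℤ) → ℕ → Bool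
  | [], _ => true
  | Gr :: Gs, r => rowChk R vals N r Gr Rt 0 && allChk R vals N Rt Gs (r + 1)

theorem allChk_sound {R : ℤ → ℕ} {vals : List ℤ} {N : ℕ} {Rt : List (List ℤ)} {G : List (List ℤ)} {r0 : ℕ}
    (h : allChk R vals N Rt G r0 = true) (r : ℕ) (hr : r < G.length) (s : ℕ) (hs : s < Rt.length)
    (hb : dot (G.getD r []) (Rt.getD s []) ∈ vals) :
    (R (dot (G.getD r []) (Rt.getD s []))).testBit (N * s + (r0 + r)) = true := by
  induction G generalizing r0 r with
  | nil => simp at hr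
  | cons X Xs ih =>
    rw [allChk, Bool.and_eq_true] at h
    cases r with
    | zero =>
      have h3 := rowChk_sound h.1 s hs hb
      rw [Nat.zero_add] at h3
      exact h3
    | succ r =>
      have h1 : (X :: Xs).getD (r + 1) [] = Xs.getD r [] := rfl
      rw [h1] at hb ⊢
      have h3 := ih h.2 r (by simpa using hr) hb
      rwa [show r0 + (r + 1) = r0 + 1 + r by ring]

variable {D : ChevalleyDatum} {l : ℕ} {M : CoxeterMatrix (Fin l)} (hp : IsType D l M)
  {W : Type*} [Group W] (cs : CoxeterSystem M W)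

theorem bil_sub {B : Fin l → Fin l → ℤ} (x y z : Fin l → ℤ) : bil B (x - y) z = bil B x z - bil B y z := by
  unfold bil
  rw [← Finset.sum_sub_distrib]
  refine Finset.sum_congr rfl fun i _ => ?_
  rw [← Finset.sum_sub_distrib]
  refine Finset.sum_congr rfl fun j _ => ?_
  rw [Pi.sub_apply]; ring

theorem bil_sub' {B : Fin l → Fin l → ℤ} (x y z : Fin l → ℤ) : bil B x (y - z) = bil B x y - bil B x z := by
  unfold bil
  rw [← Finset.sum_sub_distrib]
  refine Finset.sum_congr rfl fun i _ => ?_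
  rw [← Finset.sum_sub_distrib]
  refine Finset.sum_congr rfl fun j _ => ?_
  rw [Pi.sub_apply]; ring

theorem bil_single {B : Fin l → Fin l → ℤ} (i : Fin l) (c : ℤ) (y : Fin l → ℤ) :
    bil B (Pi.single i c) y = c * ∑ j, B i j * y j := by
  unfold bil
  rw [Finset.sum_eq_single i]
  · rw [Finset.mul_sum]
    refine Finset.sum_congr rfl fun j _ => ?_
    rw [Pi.single_eq_same]; ring
  · intro b _ hb
    refine Finset.sum_eq_zero fun c _ => ?_
    rw [Pi.single_eq_of_ne hb]; ring
  · intro h; exact absurd (Finset.mem_univ i) h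

theorem bil_single' {B : Fin l → Fin l → ℤ} (i : Fin l) (c : ℤ) (x : Fin l → ℤ) :
    bil B x (Pi.single i c) = c * ∑ j, x j * B j i := by
  unfold bil
  rw [Finset.mul_sum]
  refine Finset.sum_congr rfl fun j _ => ?_
  rw [Finset.sum_eq_single i]
  · rw [Pi.single_eq_same]; ring
  · intro b _ hb
    rw [Pi.single_eq_of_ne hb]; ring
  · intro h; exact absurd (Finset.mem_univ i) h

theorem bil_refl {B : Fin l → Fin l → ℤ}
    (hB : ∀ i j : Fin l, 2 * B j i = cartanOf D l i j * B i i ∧ 2 * B i j = cartanOf D l i j * B i i)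
    (i : Fin l) (x y : Fin l → ℤ) :
    bil B (refl (cartanOf D l) i x) (refl (cartanOf D l) i y) = bil B x y := by
  rw [refl_apply, refl_apply, bil_sub, bil_sub', bil_sub', bil_single', bil_single, bil_single]
  set γ := pairing (cartanOf D l) i x with hγ
  set δ := pairing (cartanOf D l) i y with hδ
  have e1 : pairing (cartanOf D l) i x = ∑ j, cartanOf D l i j * x j := rfl
  have e2 : pairing (cartanOf D l) i y = ∑ j, cartanOf D l i j * y j := rfl
  have h1 : 2 * ∑ j, x j * B j i = γ * B i i := by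
    rw [hγ, e1, Finset.mul_sum, Finset.sum_mul]
    refine Finset.sum_congr rfl fun j _ => ?_
    have := (hB i j).1
    linear_combination x j * this
  have h2 : 2 * ∑ j, B i j * y j = δ * B i i := by
    rw [hδ, e2, Finset.mul_sum, Finset.sum_mul]
    refine Finset.sum_congr rfl fun j _ => ?_
    have := (hB i j).2
    linear_combination y j * this
  have h3 : ∑ j, B i j * (Pi.single i δ : Fin l → ℤ) j = δ * B i i := by
    rw [Finset.sum_eq_single i]
    · rw [Pi.single_eq_same]; ring
    · intro b _ hb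
      rw [Pi.single_eq_of_ne hb]; ring
    · intro h; exact absurd (Finset.mem_univ i) h
  rw [h3]
  have h4 : 2 * (bil B x y - δ * ∑ j, x j * B j i - (γ * ∑ j, B i j * y j - γ * (δ * B i i))) = 2 * bil B x y := by
    linear_combination (-δ) * h1 - γ * h2
  linarith

/-- **`Link` from kernel checks.** -/
theorem link_of (Da : Data) (B : Fin l → Fin l → ℤ) (G : List (List ℤ)) (R : ℤ → ℕ) (vals : List ℤ)
    (hN : D.nroots = Da.N) (hRl : Da.Rt.length = Da.N) (hGN : G.length = Da.N)
    (h1 : ∀ r < Da.N, vec D l r = vl l (Da.rt r)) (h2 : ∀ r < Da.N, (Da.rt r).length = l)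
    (h3 : Da.ev.length = l) (h4 : ∀ i < l, 0 < Da.ev.getD i 0) (h5 : ∀ r < Da.N, Da.cd r = dot (Da.rt r) Da.ev)
    (hB : ∀ i j : Fin l, 2 * B j i = cartanOf D l i j * B i i ∧ 2 * B i j = cartanOf D l i j * B i i)
    (hG : ∀ r < Da.N, ∀ j : Fin l, (G.getD r []).getD j 0 = ∑ i, vl l (Da.rt r) i * B i j)
    (hGl : ∀ r < Da.N, (G.getD r []).length = l)
    (hR : ∀ i j : Fin l, j < i → Da.rel i j = R (B i j) ∧ B i j ∈ vals)
    (hc : allChk R vals Da.N Da.Rt G 0 = true) (hcl : Da.cv.length = l)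
    (hcv : ∀ i : Fin l, Da.m ∣ ∑ j, cartanOf D l i j * vl l Da.cv j) : Link Da hp cs B where
  root := by
    intro a ha
    obtain ⟨r, hr, rfl⟩ := (isRoot_iff hp cs a).1 ha
    rw [hN] at hr
    exact ⟨r, hr, (h1 r hr).symm⟩
  isr := fun r hr => (isRoot_iff hp cs _).2 ⟨r, by rw [hN]; exact hr, h1 r hr⟩
  len := h2
  evl := h3
  evp := h4
  cd := h5
  inv := by
    intro w
    induction w using cs.simple_induction_left with
    | one => intro a b; rw [map_one]; rfl
    | mul_simple_left w i ih =>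
      intro a b
      rw [rep_mul_apply, rep_mul_apply, rep_simple, bil_refl hB, ih]
  rel := by
    intro i j hij r hr s hs hb
    have e : bil B (vl l (Da.rt r)) (vl l (Da.rt s)) = dot (G.getD r []) (Da.Rt.getD s []) := by
      rw [dot_eq l _ (Da.Rt.getD s []) (hGl r hr) (h2 s hs)]
      unfold bil
      rw [Finset.sum_comm]
      refine Finset.sum_congr rfl fun j _ => ?_
      have h6 := hG r hr j
      have h7 : vl l (G.getD r []) j = ∑ i, vl l (Da.rt r) i * B i j := h6
      rw [h7, Finset.sum_mul]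
      rfl
    rw [(hR i j hij).1, ← hb, e]
    have h6 := allChk_sound hc r (by rw [hGN]; exact hr) s (by rw [hRl]; exact hs)
      (by rw [← e, hb]; exact (hR i j hij).2)
    rwa [Nat.zero_add] at h6
  cvl := hcl
  cvi := by
    intro w
    induction w using cs.simple_induction_left with
    | one => exact ⟨0, by rw [map_one, smul_zero]; exact sub_self _⟩
    | mul_simple_left w i ih =>
      obtain ⟨y, hy⟩ := ih
      obtain ⟨c, hc'⟩ := hcv i
      refine ⟨refl (cartanOf D l) i y - Pi.single i c, ?_⟩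
      have h6 : rep cs hp.isCartan w (vl l Da.cv) = vl l Da.cv + Da.m • y := by rw [← hy]; abel
      rw [rep_mul_apply, rep_simple, h6, map_add, map_zsmul, refl_apply _ _ (vl l Da.cv)]
      have h7 : pairing (cartanOf D l) i (vl l Da.cv) = Da.m * c := hc'
      rw [h7, smul_sub]
      have h8 : (Pi.single i (Da.m * c) : Fin l → ℤ) = Da.m • (Pi.single i c : Fin l → ℤ) := by
        rw [← Pi.single_smul, smul_eq_mul]
      rw [h8]
      abel

/-- the additive maps given by a list of tuples -/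
def RfL (l s : ℕ) (fls : List (List ℤ)) : Set ((Fin l → ℤ) →+ ZMod s) :=
  {f | ∃ fl ∈ fls, ∀ i : Fin l, f (sr i) = ((fl.getD i 0 : ℤ) : ZMod s)}

/-- **The alcove representatives.** -/
theorem meets_alcove {s : ℕ} (hs : 0 < s) (fls : List (List ℤ))
    (hfls : ∀ (c : Fin l → ℕ) (c0 : ℕ), Cfsg.Agent.H931.KC.Kac D l s c c0 → ∃ fl ∈ fls, ∀ i : Fin l, fl.getD i 0 = (c i : ℤ)) :
    Meets hp M.toCoxeterSystem (RfL l s fls) := by
  intro f
  have : NeZero s := ⟨hs.ne'⟩
  let b : (Fin l → ℤ) →+ ℤ :=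
    { toFun := fun x => ∑ i, x i * ((f (sr i)).val : ℤ)
      map_zero' := by simp
      map_add' := fun x y => by
        rw [← Finset.sum_add_distrib]
        refine Finset.sum_congr rfl fun i _ => ?_
        rw [Pi.add_apply, add_mul] }
  have hb : ∀ x, ((b x : ℤ) : ZMod s) = f x := by
    intro x
    show (((∑ i, x i * ((f (sr i)).val : ℤ) : ℤ)) : ZMod s) = f x
    conv_rhs => rw [eq_sum_sr x]
    rw [map_sum, Int.cast_sum]
    refine Finset.sum_congr rfl fun i _ => ?_
    rw [map_zsmul, zsmul_eq_mul, Int.cast_mul, Int.cast_natCast, ZMod.natCast_zmod_val]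
  obtain ⟨w, c, c0, hK, h⟩ := Cfsg.Agent.H931.KC.exists_alcove hp hs b
  obtain ⟨fl, hfl, e⟩ := hfls c c0 hK
  refine ⟨w, fl, hfl, fun i => ?_⟩
  have h1 := h (sr i)
  have h2 : (∑ j, (sr i : Fin l → ℤ) j * (c j : ℤ)) = c i := by
    rw [Finset.sum_eq_single i]
    · rw [sr_self, one_mul]
    · intro j _ hj
      simp [sr, hj]
    · intro h; exact absurd (Finset.mem_univ i) h
  rw [h2] at h1
  have h3 := (ZMod.intCast_zmod_eq_zero_iff_dvd _ s).2 h1
  rw [Int.cast_sub, hb, sub_eq_zero] at h3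
  rw [e i, h3]
  rfl

end Cfsg.Agent.H972.CS.LinkOf
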